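import Groth.Agent.Lib.PullLoc25.ExactFlat
import Groth.Prelude.Def_ModSite2

/-!
# When the inverse image is exact
-/

set_option autoImplicit false
universe u

open CategoryTheory CategoryTheory.Limits Opposite GrothLib.SheafCoh

namespace GrothLib.PullLoc25

variable {C D : Type u} [SmallCategory C] [SmallCategory D] {J : GrothendieckTopology C}
  {K : GrothendieckTopology D} {O_C : Sheaf J CommRingCat.{u}} {O_D : Sheaf K CommRingCat.{u}}
  (f : ModSite.RMor O_C O_D)

/-- Relations between scalars of `O_C` with coefficients pulled back from `O_D` are locally trivial. -/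
def LocFlat : Prop :=
  ∀ {V : C} {W : D} (q : V ⟶ f.fn.obj W) {α β : Type u} [Fintype α] [Fintype β]
    (d : α → O_C.obj.obj (op V)) (r : β → α → O_D.obj.obj (op W)),
    (∀ b, ∑ i, d i * coef f q (r b i) = 0) →
    ∃ S ∈ J V, ∀ ⦃V' : C⦄ (g : V' ⟶ V), S g → ∃ (W' : D) (c : W' ⟶ W) (q' : V' ⟶ f.fn.obj W'),
      q' ≫ f.fn.map c = g ≫ q ∧ ∃ (l : ℕ) (u : Fin l → O_C.obj.obj (op V')) (a : α → Fin l → O_D.obj.obj (op W')),
        (∀ i, FlatRel25.resR g (d i) = ∑ j, coef f q' (a i j) * u j) ∧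
        ∀ b j, ∑ i, a i j * FlatRel25.resR c (r b i) = 0

/-- The inverse image preserves monomorphisms. -/
theorem pull_app_eq_zero_of_locFlat (hf : LocFlat f) {F G : ModSite.Mod O_D} (α : F ⟶ G) [Mono α]
    {V₀ : C} (z : ModSite.sect (f.pull.obj F) V₀) (hz : (f.pull.map α).val.app (op V₀) z = 0) : z = 0 := by
  classical
  -- locally a combination
  obtain ⟨S₀, hS₀, h₀⟩ := exists_lam f F z
  refine FlatRel25_eq_zero_of_locally _ hS₀ fun V₁ g₁ hg₁ => ?_
  obtain ⟨y₁, hy₁⟩ := h₀ g₁ hg₁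
  rw [← hy₁]
  have hlamG : ∀ {V : C} (y : (freeGens f F).obj (op V)),
      (lam f G).app (op V) (show (Σ i : Idx G, V ⟶ f.fn.obj i.1) →₀ O_C.obj.obj (op V) from
        Finsupp.mapDomain (mapGen f α) (show (Σ i : Idx F, V ⟶ f.fn.obj i.1) →₀ O_C.obj.obj (op V) from y)) =
      (f.pull.map α).val.app (op V) ((lam f F).app (op V) y) := by
    intro V y
    rw [lam_apply, lam_apply]
    refine (Finsupp.sum_mapDomain_index_inj (mapGen_injective f α)).trans ?_
    refine Eq.trans ?_ (map_sum ((f.pull.map α).val.app (op V)).hom _ _).symm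
    refine Finset.sum_congr rfl fun e _ => ?_
    refine Eq.trans ?_ (((f.pull.map α).val.app (op V)).hom.map_smul _ _).symm
    refine congrArg (fun w : ModSite.sect (f.pull.obj G) V => _ • w) ?_
    refine Eq.trans ?_ (PresheafOfModules.naturality_apply (f.pull.map α).val e.2.op _).symm
    exact congrArg (FlatRel25.res (f.pull.obj G) e.2) (map_pullSec f α e.1.2).symm
  have hy₁' : (f.pull.map α).val.app (op V₁) ((lam f F).app (op V₁) y₁) = 0 := by
    rw [hy₁]
    exact (PresheafOfModules.naturality_apply (f.pull.map α).val g₁.op z).trans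
      ((congrArg ((f.pull.obj G).val.map g₁.op) hz).trans (map_zero _))
  obtain ⟨S₁, hS₁, h₁⟩ := exists_rel f G _ ((hlamG y₁).trans hy₁')
  refine FlatRel25_eq_zero_of_locally _ hS₁ fun V g hg => ?_
  obtain ⟨d, hd⟩ := h₁ g hg
  refine (PresheafOfModules.naturality_apply (lam f F) g.op y₁).symm.trans ?_
  let ys : (Σ i : Idx F, V ⟶ f.fn.obj i.1) →₀ O_C.obj.obj (op V) := (freeGens f F).map g.op y₁
  have hd' : (relMap f G).app (op V) d =
      (show (freeGens f G).obj (op V) from Finsupp.mapDomain (mapGen f α) ys) :=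
    hd.trans (freeMap_mapGen f α g y₁)
  let ds : (Σ R : Rel G, V ⟶ f.fn.obj R.W) →₀ O_C.obj.obj (op V) := d
  let tgt : (Σ R : {R // R ∈ ds.support}, {a // a ∈ R.1.1.r.support}) → (Σ i : Idx G, V ⟶ f.fn.obj i.1) :=
    fun k => ⟨k.2.1.1, k.1.1.2 ≫ f.fn.map k.2.1.2⟩
  let A : Finset (Σ i : Idx G, V ⟶ f.fn.obj i.1) :=
    ys.support.image (mapGen f α) ∪ Finset.univ.image tgt
  have htgt : ∀ k, tgt k ∈ A := fun k =>
    Finset.mem_union_right _ (Finset.mem_image.2 ⟨k, Finset.mem_univ k, rfl⟩)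
  have hyA : ∀ e ∈ ys.support, mapGen f α e ∈ A := fun e he =>
    Finset.mem_union_left _ (Finset.mem_image.2 ⟨e, he, rfl⟩)
  let ι := {e // e ∈ A} ⊕ {R // R ∈ ds.support}
  let U : ι → D := fun i => i.elim (fun e => e.1.1.1) (fun R => R.1.1.W)
  let p : ∀ i, V ⟶ f.fn.obj (U i) := fun i => match i with
    | .inl e => e.1.2
    | .inr R => R.1.2
  obtain ⟨S₂, hS₂, h₂⟩ := exists_merge (J := J) K f.fn U p
    (κ' := Σ R : {R // R ∈ ds.support}, {a // a ∈ R.1.1.r.support})
    (fun k => .inr k.1) (fun k => .inl ⟨tgt k, htgt k⟩) (fun k => k.2.1.2) (fun k => rfl)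
  refine FlatRel25_eq_zero_of_locally _ hS₂ fun V₂ g₂ hg₂ => ?_
  obtain ⟨W, q, l, hl, hc⟩ := h₂ g₂ hg₂
  let μ : {e // e ∈ A} → ModSite.sect G W := fun e => FlatRel25.res G (l (.inl e)) e.1.1.2
  let ρ : {R // R ∈ ds.support} → {e // e ∈ A} → O_D.obj.obj (op W) := fun R e =>
    ∑ a : {a // a ∈ R.1.1.r.support}, if tgt ⟨R, a⟩ = e.1 then FlatRel25.resR (l (.inr R)) (R.1.1.r a.1) else 0
  have hρ : ∀ R, ∑ e, ρ R e • μ e = 0 := fun R => by
    simp only [ρ, Finset.sum_smul, ite_smul, zero_smul]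
    rw [Finset.sum_comm]
    have h := congrArg (FlatRel25.res G (l (.inr R))) R.1.1.rel
    simp only [Finsupp.sum] at h
    refine Eq.trans (Finset.sum_congr rfl fun a _ => ?_) ((Finset.sum_coe_sort R.1.1.r.support
      (fun a => FlatRel25.res G (l (.inr R)) (R.1.1.r a • FlatRel25.res G a.2 a.1.2))).trans
      ((map_sum (FlatRel25.res G (l (.inr R))) _ _).symm.trans (h.trans (map_zero _))))
    rw [Finset.sum_eq_single (⟨tgt ⟨R, a⟩, htgt _⟩ : {e // e ∈ A})
      (fun e _ he => if_neg fun h' => he (Subtype.ext h'.symm)) (fun h' => absurd (Finset.mem_univ _) h')]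
    rw [if_pos rfl]
    refine Eq.trans ?_ (FlatRel25.res_smul G _ _ _).symm
    refine congrArg (fun w : ModSite.sect G W => FlatRel25.resR (l (.inr R)) (R.1.1.r a.1) • w) ?_
    refine Eq.trans ?_ (FlatRel25.res_res G a.1.2 (l (.inr R)) a.1.1.2).symm
    exact congrArg (fun k => FlatRel25.res G k a.1.1.2) (hc ⟨R, a⟩).symm
  -- classification of the generators
  let Im : {e // e ∈ A} → Prop := fun e => ∃ e₁, mapGen f α e₁ = e.1
  have hIm : ∀ e, ∃ n : ModSite.sect F W, (Im e → α.val.app (op W) n = μ e) ∧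
      (∀ e₁ (h : mapGen f α e₁ = e.1), ∀ le : W ⟶ e₁.1.1,
        HEq le (l (.inl e)) → n = FlatRel25.res F le e₁.1.2) := by
    intro e
    by_cases he : Im e
    · obtain ⟨e₁, he₁⟩ := he
      obtain ⟨e, heA⟩ := e
      subst he₁
      let le : W ⟶ e₁.1.1 := l (.inl ⟨mapGen f α e₁, heA⟩)
      refine ⟨FlatRel25.res F le e₁.1.2, fun _ => PresheafOfModules.naturality_apply α.val le.op e₁.1.2,
        fun e₂ h₂ le' hle' => ?_⟩
      obtain rfl := mapGen_injective f α h₂
      rw [eq_of_heq hle']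
    · exact ⟨0, fun h => absurd h he, fun e₁ h₁ => absurd ⟨e₁, h₁⟩ he⟩
  choose nn hnn hnn' using hIm
  let gg₂ := g₂
  let Φ : ((Σ i : Idx G, V ⟶ f.fn.obj i.1) →₀ O_C.obj.obj (op V)) → {e // e ∈ A} → O_C.obj.obj (op V₂) :=
    fun x e => FlatRel25.resR g₂ (x e.1)
  let yh := Finsupp.mapDomain (mapGen f α) ys
  have hd'' : ds.sum (fun R r => r • (show (Σ i : Idx G, V ⟶ f.fn.obj i.1) →₀ O_C.obj.obj (op V) from
      relVec f G (V := V) R)) = yh := (relMap_apply f d).symm.trans hd'
  have hcoef : ∀ e, Φ yh e = ∑ R : {R // R ∈ ds.support}, FlatRel25.resR g₂ (ds R.1) * coef f q (ρ R e) := by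
    intro e
    let ev : ((Σ i : Idx G, V ⟶ f.fn.obj i.1) →₀ O_C.obj.obj (op V)) →+ O_C.obj.obj (op V₂) :=
      AddMonoidHom.mk' (fun x => FlatRel25.resR g₂ (x e.1)) (fun x x' => by
        simp only [Finsupp.add_apply, FlatRel25.resR, map_add])
    change ev yh = _
    rw [← hd'', Finsupp.sum, map_sum, ← Finset.sum_coe_sort]
    refine Finset.sum_congr rfl fun R _ => ?_
    rw [show relVec f G R.1 = R.1.1.r.sum fun b r' => coef f R.1.2 r' •
      (show (Σ i : Idx G, V ⟶ f.fn.obj i.1) →₀ O_C.obj.obj (op V) from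
        Finsupp.single ⟨b.1, R.1.2 ≫ f.fn.map b.2⟩ 1) from rfl]
    rw [Finsupp.sum, ← Finset.sum_coe_sort]
    simp only [ev, AddMonoidHom.mk'_apply, Finsupp.smul_apply, Finsupp.finset_sum_apply, smul_eq_mul,
      FlatRel25.resR, map_mul, map_sum, ρ]
    refine congrArg (_ * ·) (Finset.sum_congr rfl fun b _ => ?_)
    change FlatRel25.resR g₂ (coef f R.1.2 (R.1.1.r b.1)) *
      FlatRel25.resR g₂ ((Finsupp.single (tgt ⟨R, b⟩) (1 : O_C.obj.obj (op V))) e.1) = _
    rw [coef_resR, Finsupp.single_apply]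
    by_cases h : tgt ⟨R, b⟩ = e.1
    · rw [if_pos h, if_pos h]
      simp only [FlatRel25.resR, map_one, mul_one]
      refine Eq.trans ?_ (coef_map f (l (.inr R)) q _).symm
      exact congrArg (fun k => coef f k (R.1.1.r b.1)) (hl (.inr R)).symm
    · rw [if_neg h, if_neg h]
      simp [FlatRel25.resR]
  obtain ⟨T, hT, hT'⟩ := hf q (α := {R // R ∈ ds.support}) (β := {e // e ∈ A})
    (fun R => FlatRel25.resR g₂ (ds R.1)) (fun e R => if Im e then 0 else ρ R e) (fun e => by
      by_cases he : Im e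
      · simp [if_pos he]
      · simp only [if_neg he]
        refine (hcoef e).symm.trans ?_
        change FlatRel25.resR g₂ (yh e.1) = 0
        rw [Finsupp.mapDomain_notin_range _ _ (fun ⟨e₁, h₁⟩ => he ⟨e₁, h₁⟩)]
        exact map_zero _)
  refine FlatRel25_eq_zero_of_locally _ hT fun V₃ g₃ hg₃ => ?_
  obtain ⟨W', c, q', hq', k, u, a, ha₁, ha₂⟩ := hT' g₃ hg₃
  let b : {e // e ∈ A} → Fin k → O_D.obj.obj (op W') := fun e j => ∑ R, a R j * FlatRel25.resR c (ρ R e)
  have hb : ∀ j, ∑ e, b e j • FlatRel25.res G c (μ e) = 0 := by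
    intro j
    simp only [b, Finset.sum_smul]
    rw [Finset.sum_comm]
    refine Finset.sum_eq_zero fun R _ => ?_
    simp only [mul_smul, ← Finset.smul_sum]
    refine Eq.trans (congrArg (fun w : ModSite.sect G W' => a R j • w) ?_) (smul_zero _)
    refine Eq.trans (Finset.sum_congr rfl fun e _ => (FlatRel25.res_smul G c _ _).symm) ?_
    exact (map_sum (FlatRel25.res G c) _ _).symm.trans ((congrArg _ (hρ R)).trans (map_zero _))
  have hz' : ∀ j, ∑ e, b e j • FlatRel25.res F c (nn e) = 0 := by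
    intro j
    refine app_injective α W' (((map_sum (α.val.app (op W')).hom _ _).trans ?_).trans
      ((hb j).trans (map_zero _).symm))
    refine Finset.sum_congr rfl fun e _ => ?_
    refine ((α.val.app (op W')).hom.map_smul _ _).trans ?_
    by_cases he : Im e
    · refine congrArg (fun w : ModSite.sect G W' => b e j • w) ?_
      exact (PresheafOfModules.naturality_apply α.val c.op (nn e)).trans (congrArg (G.val.map c.op) (hnn e he))
    · have h0 : b e j = 0 := by
        simpa only [if_neg he] using ha₂ e j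
      rw [h0]
      exact (zero_smul (O_D.obj.obj (op W')) _).trans (zero_smul (O_D.obj.obj (op W')) _).symm
  -- conclusion
  let N : {e // e ∈ A} → ModSite.sect (f.pull.obj F) V₂ := fun e =>
    FlatRel25.res (f.pull.obj F) q (pullSec f F (nn e))
  have h₃ : FlatRel25.res (f.pull.obj F) g₂ ((lam f F).app (op V) ys) = ∑ e, Φ yh e • N e := by
    let L : ((Σ i : Idx G, V ⟶ f.fn.obj i.1) →₀ O_C.obj.obj (op V)) →+ ModSite.sect (f.pull.obj F) V₂ :=
      AddMonoidHom.mk' (fun x => ∑ e : {e // e ∈ A}, Φ x e • N e) (fun x x' => by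
        simp only [Φ, Finsupp.add_apply, FlatRel25.resR, map_add, add_smul, Finset.sum_add_distrib])
    change _ = L yh
    refine (congrArg (FlatRel25.res (f.pull.obj F) g₂) (lam_apply f ys)).trans ?_
    simp only [Finsupp.sum]
    rw [map_sum, ← Finsupp.sum_single yh, map_finsuppSum,
      Finsupp.sum_mapDomain_index_inj (mapGen_injective f α), Finsupp.sum]
    refine Finset.sum_congr rfl fun e he => ?_
    change _ = ∑ e' : {e' // e' ∈ A}, _
    rw [Finset.sum_eq_single (⟨mapGen f α e, hyA e he⟩ : {e' // e' ∈ A})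
      (fun e' _ he' => by
        simp only [Φ]
        rw [Finsupp.single_eq_of_ne fun h => he' (Subtype.ext h)]
        simp [FlatRel25.resR])
      (fun h => absurd (Finset.mem_univ _) h)]
    simp only [Φ, Finsupp.single_eq_same]
    refine (FlatRel25.res_smul (f.pull.obj F) g₂ _ _).trans ?_
    refine congrArg (fun w : ModSite.sect (f.pull.obj F) V₂ => FlatRel25.resR g₂ (ys e) • w) ?_
    let le : W ⟶ e.1.1 := l (.inl ⟨mapGen f α e, hyA e he⟩)
    have e1 : g₂ ≫ e.2 = q ≫ f.fn.map le := (hl (.inl ⟨mapGen f α e, hyA e he⟩)).symm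
    rw [FlatRel25.res_res, e1, ← FlatRel25.res_res, ← pullSec_natural]
    exact congrArg (fun w => FlatRel25.res (f.pull.obj F) q (pullSec f F w))
      (hnn' ⟨mapGen f α e, hyA e he⟩ e rfl le HEq.rfl).symm
  rw [show FlatRel25.res (f.pull.obj F) g₂ _ = _ from h₃]
  rw [map_sum]
  have h₄ : ∀ e, FlatRel25.res (f.pull.obj F) g₃ (Φ yh e • N e) =
      ∑ j, (u j * coef f q' (b e j)) • FlatRel25.res (f.pull.obj F) q' (pullSec f F (FlatRel25.res F c (nn e))) := by
    intro e
    rw [FlatRel25.res_smul, hcoef e, ← Finset.sum_smul]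
    refine congrArg₂ (fun (r : O_C.obj.obj (op V₃)) w => r • w) ?_ ?_
    · simp only [b, FlatRel25.resR, map_sum, map_mul, Finset.mul_sum]
      rw [Finset.sum_comm]
      refine Finset.sum_congr rfl fun R _ => ?_
      change FlatRel25.resR g₃ (FlatRel25.resR g₂ (ds R.1)) * FlatRel25.resR g₃ (coef f q (ρ R e)) = _
      rw [ha₁ R, coef_resR, ← hq', ← coef_map, Finset.sum_mul]
      exact Finset.sum_congr rfl fun j _ => by ring
    · rw [FlatRel25.res_res, pullSec_natural, FlatRel25.res_res, hq']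
  rw [Finset.sum_congr rfl fun e _ => h₄ e, Finset.sum_comm]
  refine Finset.sum_eq_zero fun j _ => ?_
  simp only [mul_smul, ← Finset.smul_sum]
  refine Eq.trans (congrArg (fun w : ModSite.sect (f.pull.obj F) V₃ => u j • w) ?_) (smul_zero _)
  refine Eq.trans (Finset.sum_congr rfl fun e _ => (res_pullSec_smul f F q' _ _).symm) ?_
  rw [← map_sum, ← pullSec_sum, hz' j]
  exact (congrArg (FlatRel25.res (f.pull.obj F) q')
    (map_zero ((f.adj.unit.app F).val.app (op W')).hom)).trans (map_zero _)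

/-- The inverse image is exact if scalar relations are locally trivial. -/
theorem isFlat_of_locFlat (hf : LocFlat f) : f.IsFlat := by
  have := f.adj.isLeftAdjoint
  have : PreservesColimitsOfSize.{0, 0} f.pull := f.adj.leftAdjoint_preservesColimits
  have : PreservesBinaryBiproducts f.pull := preservesBinaryBiproducts_of_preservesBinaryCoproducts _
  have : f.pull.Additive := Functor.additive_of_preservesBinaryBiproducts _
  change PreservesFiniteLimits f.pull
  rw [Functor.preservesFiniteLimits_iff_forall_exact_map_and_mono]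
  intro S hS
  have := hS.mono_f
  have := hS.epi_g
  refine ⟨hS.exact.map_of_epi_of_preservesCokernel f.pull inferInstance inferInstance, ?_⟩
  apply (SheafOfModules.toSheaf (ModSite.ringSh O_C) ⋙ sheafToPresheaf J AddCommGrpCat.{u}).mono_of_mono_map
  refine @NatTrans.mono_of_mono_app _ _ _ _ _ _ _ fun V => ?_
  rw [AddCommGrpCat.mono_iff_injective]
  refine (injective_iff_map_eq_zero _).2 fun z hz => ?_
  exact pull_app_eq_zero_of_locFlat f hf S.f z hz

end GrothLib.PullLoc25
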