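import Groth.Agent.Lib.PullLoc25.Pairing
import Groth.Agent.Lib.SheafCoh.TensorShf

/-!
# The inverse image of modules commutes with the tensor product
-/

set_option autoImplicit false
universe u

open CategoryTheory CategoryTheory.Limits Opposite MonoidalCategory GrothLib.SheafCoh

namespace GrothLib.PullLoc25

variable {C D : Type u} [SmallCategory C] [SmallCategory D] {J : GrothendieckTopology C}
  {K : GrothendieckTopology D} {O_C : Sheaf J CommRingCat.{u}} {O_D : Sheaf K CommRingCat.{u}}
  (f : ModSite.RMor O_C O_D) (M N : ModSite.Mod O_D)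

/-- Combinations of generators of `f^*M` as finitely supported functions. -/
abbrev GenComb (V : C) : Type u := (Σ i : Idx M, V ⟶ f.fn.obj i.1) →₀ O_C.obj.obj (op V)

/-- The bilinear extension of the product of generators. -/
noncomputable def pairing (V : C) :
    GenComb f M V →ₗ[O_C.obj.obj (op V)] GenComb f N V →ₗ[O_C.obj.obj (op V)] ((forgetP O_C).obj (pullTen f M N)).obj (op V) :=
  Finsupp.linearCombination (O_C.obj.obj (op V)) fun x =>
    Finsupp.linearCombination (O_C.obj.obj (op V)) fun y => val f M N x y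

theorem pairing_single {V : C} (x : Σ i : Idx M, V ⟶ f.fn.obj i.1) (y : Σ i : Idx N, V ⟶ f.fn.obj i.1)
    (c d : O_C.obj.obj (op V)) :
    pairing f M N V (Finsupp.single x c) (Finsupp.single y d) = c • d • val f M N x y := by
  rw [pairing, Finsupp.linearCombination_single, LinearMap.smul_apply, Finsupp.linearCombination_single]
  rfl

theorem freeMap_single {V V' : C} (g : V' ⟶ V) (x : Σ i : Idx M, V ⟶ f.fn.obj i.1) (c : O_C.obj.obj (op V)) :
    (freeGens f M).map g.op (show (freeGens f M).obj (op V) from Finsupp.single x c) =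
      (show (freeGens f M).obj (op V') from Finsupp.single ⟨x.1, g ≫ x.2⟩ (FlatRel25.resR g c)) := by
  have e1 : (show (freeGens f M).obj (op V) from Finsupp.single x c) = c • gen' f M x :=
    (Finsupp.smul_single_one x c).symm
  rw [e1]
  refine ((freeGens f M).map_smul g.op c _).trans ?_
  rw [gen'_map]
  exact Finsupp.smul_single_one _ _

theorem freeMap_pairing {V V' : C} (g : V' ⟶ V) (a : GenComb f M V) (b : GenComb f N V) :
    FlatRel25.res (pullTen f M N) g (pairing f M N V a b) =
      pairing f M N V' ((freeGens f M).map g.op (show (freeGens f M).obj (op V) from a))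
        ((freeGens f N).map g.op (show (freeGens f N).obj (op V) from b)) := by
  induction a using Finsupp.induction_linear with
  | zero =>
    refine ((congrArg _ (LinearMap.congr_fun (map_zero (pairing f M N V)) b)).trans (map_zero _)).trans ?_
    exact ((congrArg (fun z => pairing f M N V' z _) (map_zero ((freeGens f M).map g.op).hom)).trans
      (LinearMap.congr_fun (map_zero (pairing f M N V')) _)).symm
  | add a a' ha ha' =>
    refine ((congrArg _ (LinearMap.congr_fun (map_add (pairing f M N V) a a') b)).trans (map_add _ _ _)).trans ?_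
    refine (congrArg₂ (· + ·) ha ha').trans ?_
    exact ((congrArg (fun z => pairing f M N V' z _) (map_add ((freeGens f M).map g.op).hom a a')).trans
      (LinearMap.congr_fun (map_add (pairing f M N V') _ _) _)).symm
  | single x c =>
    induction b using Finsupp.induction_linear with
    | zero =>
      refine ((congrArg _ (map_zero _)).trans (map_zero _)).trans ?_
      exact ((congrArg (pairing f M N V' _) (map_zero ((freeGens f N).map g.op).hom)).trans (map_zero _)).symm
    | add b b' hb hb' =>
      refine ((congrArg _ (map_add _ b b')).trans (map_add _ _ _)).trans ?_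
      refine (congrArg₂ (· + ·) hb hb').trans ?_
      exact ((congrArg (pairing f M N V' _) (map_add ((freeGens f N).map g.op).hom b b')).trans (map_add _ _ _)).symm
    | single y d =>
      refine Eq.trans ?_ (congrArg₂ (fun a b => pairing f M N V' a b) (freeMap_single f M g x c)
        (freeMap_single f N g y d)).symm
      refine (congrArg (FlatRel25.res (pullTen f M N) g) (pairing_single f M N x y c d)).trans ?_
      refine Eq.trans ?_ (pairing_single f M N _ _ _ _).symm
      refine (FlatRel25.res_smul (pullTen f M N) g c _).trans ?_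
      refine congrArg (fun z : ModSite.sect (pullTen f M N) V' => FlatRel25.resR g c • z) ?_
      refine (FlatRel25.res_smul (pullTen f M N) g d _).trans ?_
      exact congrArg (fun z : ModSite.sect (pullTen f M N) V' => FlatRel25.resR g d • z) (val_res f M N g x y)

/-- The map of presheaves extending the product of generators. -/
noncomputable def pairMap : freeGens f M ⊗ freeGens f N ⟶ (forgetP O_C).obj (pullTen f M N) where
  app V := ModuleCat.MonoidalCategory.tensorLift
    (fun a b => pairing f M N V.unop a b)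
    (fun a a' b => LinearMap.congr_fun (map_add (pairing f M N V.unop) a a') b)
    (fun r a b => LinearMap.congr_fun (map_smul (pairing f M N V.unop) (show O_C.obj.obj (op V.unop) from r) a) b)
    (fun a b b' => map_add (pairing f M N V.unop a) b b')
    (fun r a b => map_smul (pairing f M N V.unop a) r b)
  naturality {V V'} g := ModuleCat.MonoidalCategory.tensor_ext fun a b =>
    (freeMap_pairing f M N g.unop a b).symm

/-- An element of a tensor product of presheaves. -/
noncomputable def te {P Q : PMod' O_C} {V : C} (a : P.obj (op V)) (b : Q.obj (op V)) : (P ⊗ Q).obj (op V) :=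
  a ⊗ₜ[O_C.obj.obj (op V)] b

theorem pairMap_te {V : C} (a : (freeGens f M).obj (op V)) (b : (freeGens f N).obj (op V)) :
    (pairMap f M N).app (op V) (te a b) = pairing f M N V a b := rfl

theorem te_zero_left {P Q : PMod' O_C} {V : C} (b : Q.obj (op V)) : te (0 : P.obj (op V)) b = 0 :=
  TensorProduct.zero_tmul _ b

theorem te_zero_right {P Q : PMod' O_C} {V : C} (a : P.obj (op V)) : te a (0 : Q.obj (op V)) = 0 :=
  TensorProduct.tmul_zero _ a

theorem te_add_left {P Q : PMod' O_C} {V : C} (a a' : P.obj (op V)) (b : Q.obj (op V)) :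
    te (a + a') b = te a b + te a' b :=
  TensorProduct.add_tmul a a' b

theorem te_add_right {P Q : PMod' O_C} {V : C} (a : P.obj (op V)) (b b' : Q.obj (op V)) :
    te a (b + b') = te a b + te a b' :=
  TensorProduct.tmul_add a b b'

theorem te_smul_left {P Q : PMod' O_C} {V : C} (c : O_C.obj.obj (op V)) (a : P.obj (op V)) (b : Q.obj (op V)) :
    te (c • a) b = c • te a b :=
  (TensorProduct.smul_tmul' c a b).symm

theorem te_smul_right {P Q : PMod' O_C} {V : C} (c : O_C.obj.obj (op V)) (a : P.obj (op V)) (b : Q.obj (op V)) :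
    te a (c • b) = c • te a b :=
  TensorProduct.tmul_smul c a b

/-- The free presheaf. -/
noncomputable abbrev fr (G : Cᵒᵖ ⥤ Type u) : PMod' O_C :=
  PresheafOfModules.freeObj (R := O_C.obj ⋙ forget₂ CommRingCat.{u} RingCat.{u}) G

/-- A free generator. -/
noncomputable def fm {G : Cᵒᵖ ⥤ Type u} {V : C} (x : G.obj (op V)) : (fr (O_C := O_C) G).obj (op V) :=
  ModuleCat.freeMk x

/-- Two maps out of a product of free presheaves agreeing on generators are equal. -/
theorem freeTensor_ext {G H : Cᵒᵖ ⥤ Type u} {P : PMod' O_C}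
    {α β : fr (O_C := O_C) G ⊗ fr H ⟶ P}
    (h : ∀ (V : C) (x : G.obj (op V)) (y : H.obj (op V)),
      α.app (op V) (te (fm x) (fm y)) = β.app (op V) (te (fm x) (fm y))) : α = β := by
  refine PresheafOfModules.hom_ext fun V => ?_
  obtain ⟨V⟩ := V
  let γ := α.app (op V)
  let δ := β.app (op V)
  have key : ∀ (a : G.obj (op V) →₀ O_C.obj.obj (op V)) (b : H.obj (op V) →₀ O_C.obj.obj (op V)),
      γ (te (P := fr G) (Q := fr H) a b) = δ (te (P := fr G) (Q := fr H) a b) := by
    intro a b
    induction a using Finsupp.induction_linear with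
    | zero =>
      exact (congrArg γ (te_zero_left (P := fr G) (Q := fr H) b)).trans ((map_zero γ.hom).trans
        ((congrArg δ (te_zero_left (P := fr G) (Q := fr H) b)).trans (map_zero δ.hom)).symm)
    | add a a' ha ha' =>
      refine (congrArg γ (te_add_left (P := fr G) (Q := fr H) a a' b)).trans ((map_add γ.hom _ _).trans ?_)
      refine (congrArg₂ (· + ·) ha ha').trans ?_
      exact ((congrArg δ (te_add_left (P := fr G) (Q := fr H) a a' b)).trans (map_add δ.hom _ _)).symm
    | single x c =>
      induction b using Finsupp.induction_linear with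
      | zero =>
        exact (congrArg γ (te_zero_right (P := fr G) (Q := fr H) _)).trans ((map_zero γ.hom).trans
          ((congrArg δ (te_zero_right (P := fr G) (Q := fr H) _)).trans (map_zero δ.hom)).symm)
      | add b b' hb hb' =>
        refine (congrArg γ (te_add_right (P := fr G) (Q := fr H) _ b b')).trans ((map_add γ.hom _ _).trans ?_)
        refine (congrArg₂ (· + ·) hb hb').trans ?_
        exact ((congrArg δ (te_add_right (P := fr G) (Q := fr H) _ b b')).trans (map_add δ.hom _ _)).symm
      | single y d =>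
        have e : te (P := fr G) (Q := fr H) (Finsupp.single x c) (Finsupp.single y d) =
            c • d • te (fm x) (fm y) := by
          refine Eq.trans ?_ ((te_smul_left (P := fr G) (Q := fr H) c (fm x) _).trans
            (congrArg (c • ·) (te_smul_right (P := fr G) (Q := fr H) d (fm x) (fm y))))
          exact congrArg₂ (te (P := fr G) (Q := fr H)) (Finsupp.smul_single_one x c).symm
            (Finsupp.smul_single_one y d).symm
        rw [e]
        refine (map_smul γ.hom c _).trans (Eq.trans ?_ (map_smul δ.hom c _).symm)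
        refine congrArg (c • ·) ((map_smul γ.hom d _).trans (Eq.trans ?_ (map_smul δ.hom d _).symm))
        exact congrArg (d • ·) (h V x y)
  exact ModuleCat.MonoidalCategory.tensor_ext fun a b => key a b

theorem pairMap_gen {V : C} (x : Σ i : Idx M, V ⟶ f.fn.obj i.1) (y : Σ i : Idx N, V ⟶ f.fn.obj i.1) :
    (pairMap f M N).app (op V) (te (gen' f M x) (gen' f N y)) = val f M N x y :=
  (pairing_single f M N x y 1 1).trans ((one_smul _ _).trans (one_smul _ _))

theorem res_val_rel_sum {V : C} (R : Rel M) (p : V ⟶ f.fn.obj R.W) (y : Σ i : Idx N, V ⟶ f.fn.obj i.1) :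
    (R.r.sum fun a c => coef f p c • val f M N ⟨a.1, p ≫ f.fn.map a.2⟩ y) = 0 := by
  obtain ⟨S, hS, h⟩ := exists_pair (J := J) K f.fn p y.2
  refine eq_of_locally _ hS fun V' g hg => ?_
  obtain ⟨W, c, b, q, e₁, e₂⟩ := h g hg
  simp only [Finsupp.sum]
  rw [map_sum, map_zero]
  have key : ∀ a : Σ i : Idx M, R.W ⟶ i.1,
      FlatRel25.res (pullTen f M N) g (coef f p (R.r a) • val f M N ⟨a.1, p ≫ f.fn.map a.2⟩ y) =
        FlatRel25.res (pullTen f M N) q (pullSec f _ (tm M N (FlatRel25.res M c (R.r a • FlatRel25.res M a.2 a.1.2))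
          (FlatRel25.res N b y.1.2))) := by
    intro a
    rw [FlatRel25.res_smul, coef_resR, val_spec f M N ⟨a.1, p ≫ f.fn.map a.2⟩ y g W q (c ≫ a.2) b
      (by rw [f.fn.map_comp, reassoc_of% e₁]) e₂, ← e₁, ← coef_map]
    refine Eq.trans ?_ (congrArg (FlatRel25.res (pullTen f M N) q) (congrArg (pullSec f _)
      ((congrArg (fun z => tm M N z _) (FlatRel25.res_smul M c _ _)).trans (tm_smul_left _ _ _)))).symm
    rw [res_pullSec_smul, cand, FlatRel25.res_res]
  rw [Finset.sum_congr rfl fun a _ => key a, ← map_sum, ← pullSec_sum]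
  have hz : ∑ a ∈ R.r.support, tm M N (FlatRel25.res M c (R.r a • FlatRel25.res M a.2 a.1.2))
      (FlatRel25.res N b y.1.2) = 0 := by
    let L : ModSite.sect M W →+ ModSite.sect (((ModSite.tensorBi O_D).obj M).obj N) W :=
      AddMonoidHom.mk' (fun z => tm M N z (FlatRel25.res N b y.1.2)) fun z z' => tm_add_left z z' _
    refine ((map_sum (L.comp (FlatRel25.res M c)) (fun a => R.r a • FlatRel25.res M a.2 a.1.2) _).symm.trans ?_)
    exact (congrArg (L.comp (FlatRel25.res M c)) R.rel).trans (map_zero _)
  rw [hz]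
  exact (congrArg (FlatRel25.res (pullTen f M N) q)
    (map_zero ((f.adj.unit.app (((ModSite.tensorBi O_D).obj M).obj N)).val.app (op W)).hom)).trans (map_zero _)

theorem res_val_rel_sum' {V : C} (R : Rel N) (p : V ⟶ f.fn.obj R.W) (x : Σ i : Idx M, V ⟶ f.fn.obj i.1) :
    (R.r.sum fun a c => coef f p c • val f M N x ⟨a.1, p ≫ f.fn.map a.2⟩) = 0 := by
  obtain ⟨S, hS, h⟩ := exists_pair (J := J) K f.fn x.2 p
  refine eq_of_locally _ hS fun V' g hg => ?_
  obtain ⟨W, b, c, q, e₂, e₁⟩ := h g hg
  simp only [Finsupp.sum]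
  rw [map_sum, map_zero]
  have key : ∀ a : Σ i : Idx N, R.W ⟶ i.1,
      FlatRel25.res (pullTen f M N) g (coef f p (R.r a) • val f M N x ⟨a.1, p ≫ f.fn.map a.2⟩) =
        FlatRel25.res (pullTen f M N) q (pullSec f _ (tm M N (FlatRel25.res M b x.1.2)
          (FlatRel25.res N c (R.r a • FlatRel25.res N a.2 a.1.2)))) := by
    intro a
    rw [FlatRel25.res_smul, coef_resR, val_spec f M N x ⟨a.1, p ≫ f.fn.map a.2⟩ g W q b (c ≫ a.2) e₂
      (by rw [f.fn.map_comp, reassoc_of% e₁]), ← e₁, ← coef_map]
    refine Eq.trans ?_ (congrArg (FlatRel25.res (pullTen f M N) q) (congrArg (pullSec f _)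
      ((congrArg (tm M N _) (FlatRel25.res_smul N c _ _)).trans (tm_smul_right _ _ _)))).symm
    rw [res_pullSec_smul, cand, FlatRel25.res_res]
  rw [Finset.sum_congr rfl fun a _ => key a, ← map_sum, ← pullSec_sum]
  have hz : ∑ a ∈ R.r.support, tm M N (FlatRel25.res M b x.1.2)
      (FlatRel25.res N c (R.r a • FlatRel25.res N a.2 a.1.2)) = 0 := by
    let L : ModSite.sect N W →+ ModSite.sect (((ModSite.tensorBi O_D).obj M).obj N) W :=
      AddMonoidHom.mk' (fun z => tm M N (FlatRel25.res M b x.1.2) z) fun z z' => tm_add_right _ z z'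
    refine ((map_sum (L.comp (FlatRel25.res N c)) (fun a => R.r a • FlatRel25.res N a.2 a.1.2) _).symm.trans ?_)
    exact (congrArg (L.comp (FlatRel25.res N c)) R.rel).trans (map_zero _)
  rw [hz]
  exact (congrArg (FlatRel25.res (pullTen f M N) q)
    (map_zero ((f.adj.unit.app (((ModSite.tensorBi O_D).obj M).obj N)).val.app (op W)).hom)).trans (map_zero _)

theorem relMap_freeMk {V : C} (x : (rels f M).obj (op V)) :
    (relMap f M).app (op V) (ModuleCat.freeMk x) = relVec f M x :=
  ModuleCat.freeDesc_apply (M := (freeGens f M).obj (op V)) _ x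

theorem relMap_pairMap : (relMap f M ▷ freeGens f N) ≫ pairMap f M N = 0 := by
  refine freeTensor_ext fun V x y => ?_
  change pairing f M N V ((relMap f M).app (op V) (ModuleCat.freeMk x)) (ModuleCat.freeMk y) = 0
  rw [relMap_freeMk, relVec, Finsupp.sum]
  refine (LinearMap.congr_fun (map_sum (pairing f M N V) _ _) _).trans ?_
  rw [LinearMap.sum_apply]
  refine Eq.trans (Finset.sum_congr rfl fun a _ => ?_) (res_val_rel_sum f M N x.1 x.2 y)
  refine (LinearMap.congr_fun (map_smul (pairing f M N V) _ _) _).trans ?_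
  exact congrArg (fun z : ModSite.sect (pullTen f M N) V => coef f x.2 (x.1.r a) • z) (pairMap_gen f M N _ _)

theorem relMap_pairMap' : (freeGens f M ◁ relMap f N) ≫ pairMap f M N = 0 := by
  refine freeTensor_ext fun V x y => ?_
  change pairing f M N V (ModuleCat.freeMk x) ((relMap f N).app (op V) (ModuleCat.freeMk y)) = 0
  rw [relMap_freeMk, relVec, Finsupp.sum]
  refine (map_sum (pairing f M N V _) _ _).trans ?_
  refine Eq.trans (Finset.sum_congr rfl fun a _ => ?_) (res_val_rel_sum' f M N y.1 y.2 x)
  refine (map_smul (pairing f M N V _) _ _).trans ?_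
  exact congrArg (fun z : ModSite.sect (pullTen f M N) V => coef f y.2 (y.1.r a) • z) (pairMap_gen f M N _ _)

theorem exists_pairBar : ∃ G : pre f M ⊗ pre f N ⟶ (forgetP O_C).obj (pullTen f M N),
    (cokernel.π (relMap f M) ⊗ₘ cokernel.π (relMap f N)) ≫ G = pairMap f M N := by
  have := preservesBinaryBiproducts_of_preservesBinaryCoproducts (tensorRight (freeGens f N))
  have := preservesBinaryBiproducts_of_preservesBinaryCoproducts (tensorLeft (pre f M))
  have := (tensorRight (freeGens f N)).additive_of_preservesBinaryBiproducts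
  have := (tensorLeft (pre f M)).additive_of_preservesBinaryBiproducts
  let c₁ := isColimitCoforkMapOfIsColimit' (tensorRight (freeGens f N)) (cokernel.condition (relMap f M))
    (cokernelIsCokernel _)
  obtain ⟨G₁, hG₁⟩ := CokernelCofork.IsColimit.desc' c₁ (pairMap f M N) (relMap_pairMap f M N)
  have hG₁' : cokernel.π (relMap f M) ▷ freeGens f N ≫ G₁ = pairMap f M N := hG₁
  let c₂ := isColimitCoforkMapOfIsColimit' (tensorLeft (pre f M)) (cokernel.condition (relMap f N))
    (cokernelIsCokernel _)
  have : Epi ((tensorRight (freeRels f N)).map (cokernel.π (relMap f M))) := inferInstance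
  obtain ⟨G₂, hG₂⟩ := CokernelCofork.IsColimit.desc' c₂ G₁ (by
    rw [← cancel_epi ((tensorRight (freeRels f N)).map (cokernel.π (relMap f M)))]
    change cokernel.π (relMap f M) ▷ freeRels f N ≫ pre f M ◁ relMap f N ≫ G₁ = _
    rw [← whisker_exchange_assoc, hG₁', relMap_pairMap', comp_zero])
  refine ⟨G₂, ?_⟩
  rw [MonoidalCategory.tensorHom_def, Category.assoc]
  exact (congrArg (_ ≫ ·) hG₂).trans hG₁'

theorem lam_eq : cokernel.π (relMap f M) ≫ lamBar f M = lam f M := cokernel.π_desc _ _ _

theorem isIso_shf_lam :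
    IsIso ((shf O_C).map (lamBar f M ⊗ₘ lamBar f N)) := by
  rw [← unit_lamSh, ← unit_lamSh, ← tensorHom_comp_tensorHom, Functor.map_comp]
  have := isIso_lamSh f M
  have := isIso_lamSh f N
  have := isIso_shf_map_tensorHom_unit O_C (pre f M) (pre f N)
  infer_instance

theorem epi_shf_lam : Epi ((shf O_C).map (lam f M ⊗ₘ lam f N)) := by
  rw [← lam_eq, ← lam_eq, ← tensorHom_comp_tensorHom, Functor.map_comp]
  have := isIso_shf_lam f M N
  have : Epi (cokernel.π (relMap f M) ⊗ₘ cokernel.π (relMap f N)) := by
    rw [MonoidalCategory.tensorHom_def]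
    exact @epi_comp _ _ _ _ _ _
      (inferInstanceAs (Epi ((tensorRight (freeGens f N)).map (cokernel.π (relMap f M))))) _
      (inferInstanceAs (Epi ((tensorLeft (pre f M)).map (cokernel.π (relMap f N)))))
  infer_instance

theorem exists_psi : ∃ ψ : tenPull f M N ⟶ pullTen f M N,
    (lam f M ⊗ₘ lam f N) ≫ (shfAdj O_C).unit.app ((forgetP O_C).obj (f.pull.obj M) ⊗ (forgetP O_C).obj (f.pull.obj N))
      ≫ (forgetP O_C).map ψ = pairMap f M N := by
  obtain ⟨G, hG⟩ := exists_pairBar f M N
  have := isIso_shf_lam f M N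
  refine ⟨@inv _ _ _ _ ((shf O_C).map (lamBar f M ⊗ₘ lamBar f N)) (isIso_shf_lam f M N) ≫ ((shfAdj O_C).homEquiv _ _).symm G, ?_⟩
  rw [← lam_eq, ← lam_eq, ← tensorHom_comp_tensorHom, Category.assoc]
  refine (congrArg (_ ≫ ·) ?_).trans hG
  refine (congrArg (_ ≫ ·) ((shfAdj O_C).homEquiv_unit _ _ _).symm).trans ?_
  refine ((shfAdj O_C).homEquiv_naturality_left _ _).symm.trans ?_
  exact (congrArg _ (IsIso.hom_inv_id_assoc _ _)).trans (Equiv.apply_symm_apply _ _)

theorem lam_pullSec {U : D} (m : ModSite.sect M U) :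
    (lam f M).app (op (f.fn.obj U)) (gen' f M ⟨⟨U, m⟩, 𝟙 _⟩) = pullSec f M m :=
  (lam_gen' f M _).trans (res_id _ _)

/-- The inverse image commutes with the tensor product. -/
theorem isIso_phi : IsIso (phi f M N) := by
  obtain ⟨ψ, hψ⟩ := exists_psi f M N
  have hval : ∀ {V : C} (x : Σ i : Idx M, V ⟶ f.fn.obj i.1) (y : Σ i : Idx N, V ⟶ f.fn.obj i.1),
      ψ.val.app (op V) (tm (f.pull.obj M) (f.pull.obj N) ((lam f M).app (op V) (gen' f M x))
        ((lam f N).app (op V) (gen' f N y))) = val f M N x y := fun x y =>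
    (congrArg (fun k => k.app (op _) (te (gen' f M x) (gen' f N y))) hψ).trans (pairMap_gen f M N x y)
  refine ⟨ψ, ?_, ?_⟩
  · apply (f.adj.homEquiv _ _).injective
    apply ((shfAdj O_D).homEquiv _ _).injective
    refine PresheafOfModules.hom_ext fun U => ModuleCat.MonoidalCategory.tensor_ext fun m n => ?_
    obtain ⟨U⟩ := U
    rw [f.adj.homEquiv_unit, f.adj.homEquiv_unit, (shfAdj O_D).homEquiv_unit, (shfAdj O_D).homEquiv_unit]
    change ψ.val.app (op (f.fn.obj U)) ((phi f M N).val.app (op (f.fn.obj U)) (pullSec f _ (tm M N m n))) =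
      pullSec f _ (tm M N m n)
    rw [phi_pullSec, ← lam_pullSec f M m, ← lam_pullSec f N n, hval]
    exact val_pullSec f M N m n
  · have := epi_shf_lam f M N
    refine (cancel_epi ((shf O_C).map (lam f M ⊗ₘ lam f N))).1 ?_
    apply ((shfAdj O_C).homEquiv _ _).injective
    rw [(shfAdj O_C).homEquiv_naturality_left, (shfAdj O_C).homEquiv_naturality_left,
      (shfAdj O_C).homEquiv_unit, (shfAdj O_C).homEquiv_unit]
    refine freeTensor_ext fun V x y => ?_
    change (phi f M N).val.app (op V) (ψ.val.app (op V) (tm (f.pull.obj M) (f.pull.obj N)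
      ((lam f M).app (op V) (gen' f M x)) ((lam f N).app (op V) (gen' f N y)))) =
      tm (f.pull.obj M) (f.pull.obj N) ((lam f M).app (op V) (gen' f M x)) ((lam f N).app (op V) (gen' f N y))
    rw [hval, lam_gen', lam_gen']
    obtain ⟨S, hS, h⟩ := exists_pair (J := J) K f.fn x.2 y.2
    refine eq_of_locally _ hS fun V' g hg => ?_
    obtain ⟨W, a, b, q, e₁, e₂⟩ := h g hg
    refine (PresheafOfModules.naturality_apply (phi f M N).val g.op _).symm.trans ?_
    refine (congrArg ((phi f M N).val.app (op V')) (val_spec f M N x y g W q a b e₁ e₂)).trans ?_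
    refine (PresheafOfModules.naturality_apply (phi f M N).val q.op _).trans ?_
    change FlatRel25.res (tenPull f M N) q _ = _
    rw [phi_pullSec, res_tm, res_tm, pullSec_natural, pullSec_natural, FlatRel25.res_res, FlatRel25.res_res,
      FlatRel25.res_res, FlatRel25.res_res, e₁, e₂]

/-- The inverse image commutes with the tensor product, as an isomorphism. -/
noncomputable def pullTensorIso : pullTen f M N ≅ tenPull f M N :=
  @asIso _ _ _ _ (phi f M N) (isIso_phi f M N)

/-- The comparison is natural. -/
theorem phi_natural {M M' N N' : ModSite.Mod O_D} (α : M ⟶ M') (β : N ⟶ N') :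
    f.pull.map ((shf O_D).map ((forgetP O_D).map α ⊗ₘ (forgetP O_D).map β)) ≫ phi f M' N' =
      phi f M N ≫ (shf O_C).map ((forgetP O_C).map (f.pull.map α) ⊗ₘ (forgetP O_C).map (f.pull.map β)) := by
  apply (f.adj.homEquiv _ _).injective
  apply ((shfAdj O_D).homEquiv _ _).injective
  refine PresheafOfModules.hom_ext fun U => ModuleCat.MonoidalCategory.tensor_ext fun m n => ?_
  obtain ⟨U⟩ := U
  rw [f.adj.homEquiv_unit, f.adj.homEquiv_unit, (shfAdj O_D).homEquiv_unit, (shfAdj O_D).homEquiv_unit]
  have hps : ∀ {A B : ModSite.Mod O_D} (γ : A ⟶ B) (z : ModSite.sect A U),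
      (f.pull.map γ).val.app (op (f.fn.obj U)) (pullSec f A z) = pullSec f B (γ.val.app (op U) z) := fun γ z =>
    (congrArg (fun k => k.val.app (op U) z) (f.adj.unit.naturality γ)).symm
  change (phi f M' N').val.app _ ((f.pull.map _).val.app _ (pullSec f _ (tm M N m n))) =
    ((shf O_C).map ((forgetP O_C).map (f.pull.map α) ⊗ₘ (forgetP O_C).map (f.pull.map β))).val.app _
      ((phi f M N).val.app _ (pullSec f _ (tm M N m n)))
  refine (congrArg ((phi f M' N').val.app _) ((hps _ _).trans (congrArg (pullSec f _) (tm_map M N α β m n)))).trans ?_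
  refine (phi_pullSec f M' N' _ _).trans ?_
  refine Eq.trans ?_ (congrArg ((((shf O_C).map ((forgetP O_C).map (f.pull.map α) ⊗ₘ (forgetP O_C).map (f.pull.map β))).val.app _))
    (phi_pullSec f M N m n)).symm
  refine Eq.trans ?_ (tm_map _ _ (f.pull.map α) (f.pull.map β) _ _).symm
  exact congrArg₂ (tm (f.pull.obj M') (f.pull.obj N')) (hps α m).symm (hps β n).symm

end GrothLib.PullLoc25
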