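import Groth.Agent.Lib.PullLoc25.Flat
import Groth.Agent.Lib.PullLoc25.Tensor
import Mathlib.Algebra.Homology.ShortComplex.ExactFunctor

/-!
# Inverse images of short exact sequences with flat quotient
-/

set_option autoImplicit false
universe u

open CategoryTheory CategoryTheory.Limits Opposite GrothLib.SheafCoh

namespace GrothLib.PullLoc25

section Sections

variable {C : Type u} [SmallCategory C] {J : GrothendieckTopology C} {O : Sheaf J CommRingCat.{u}}

/-- A surjection of modules is surjective on sections locally. -/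
theorem imageSieve_mem_of_epi_mod {P Q : ModSite.Mod O} (φ : P ⟶ Q) [Epi φ] {U : C} (t : ModSite.sect Q U) :
    ∃ S ∈ J U, ∀ ⦃V : C⦄ (g : V ⟶ U), S g → ∃ x, φ.val.app (op V) x = FlatRel25.res Q g t := by
  let φ' := (SheafOfModules.toSheaf (ModSite.ringSh O)).map φ
  have : Epi φ' := Functor.map_epi _ _
  have : Sheaf.IsLocallySurjective φ' := (Sheaf.isLocallySurjective_iff_epi' _ φ').2 inferInstance
  refine ⟨Presheaf.imageSieve φ'.hom (U := U) t, Presheaf.imageSieve_mem J φ'.hom (U := op U) t, fun V g hg => ?_⟩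
  obtain ⟨x, hx⟩ := hg
  exact ⟨x, hx⟩

/-- Finitely many sections lift locally. -/
theorem exists_lifts {P Q : ModSite.Mod O} (φ : P ⟶ Q) [Epi φ] : ∀ (n : ℕ) {U : C} (t : Fin n → ModSite.sect Q U),
    ∃ S ∈ J U, ∀ ⦃V : C⦄ (g : V ⟶ U), S g → ∃ x : Fin n → ModSite.sect P V,
      ∀ j, φ.val.app (op V) (x j) = FlatRel25.res Q g (t j) := by
  intro n
  induction n with
  | zero => exact fun {U} t => ⟨⊤, J.top_mem U, fun V g _ => ⟨fun j => j.elim0, fun j => j.elim0⟩⟩
  | succ n ih =>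
    intro U t
    obtain ⟨S₁, hS₁, h₁⟩ := ih (fun j => t j.succ)
    obtain ⟨S₂, hS₂, h₂⟩ := imageSieve_mem_of_epi_mod φ (t 0)
    refine ⟨S₁ ⊓ S₂, J.intersection_covering hS₁ hS₂, fun V g hg => ?_⟩
    obtain ⟨x, hx⟩ := h₁ g hg.1
    obtain ⟨x₀, hx₀⟩ := h₂ g hg.2
    refine ⟨Fin.cases x₀ x, fun j => ?_⟩
    cases j using Fin.cases with
    | zero => simpa using hx₀
    | succ j => simpa using hx j

/-- A short exact sequence is left exact on sections. -/
theorem exists_kernel_section {S : ShortComplex (ModSite.Mod O)} (hS : S.ShortExact) {U : C}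
    (m : ModSite.sect S.X₂ U) (hm : S.g.val.app (op U) m = 0) : ∃ n, S.f.val.app (op U) n = m := by
  have := hS.mono_f
  have h := ((hS.exact.map_of_mono_of_preservesKernel (SheafOfModules.toSheaf (ModSite.ringSh O)) inferInstance
    inferInstance).map_of_mono_of_preservesKernel (sheafToPresheaf J AddCommGrpCat.{u})
      (inferInstanceAs (Mono ((SheafOfModules.toSheaf (ModSite.ringSh O)).map S.f))) inferInstance).map ((evaluation _ _).obj (op U))
  exact (ShortComplex.ab_exact_iff _).1 h m hm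

/-- An injection of modules is injective on sections. -/
theorem app_injective {P Q : ModSite.Mod O} (φ : P ⟶ Q) [Mono φ] (U : C) :
    Function.Injective (φ.val.app (op U)) := by
  have : Mono (((SheafOfModules.toSheaf (ModSite.ringSh O) ⋙ sheafToPresheaf J AddCommGrpCat.{u}) ⋙
      (evaluation _ _).obj (op U)).map φ) := Functor.map_mono _ _
  exact (AddCommGrpCat.mono_iff_injective _).1 this

end Sections

variable {C D : Type u} [SmallCategory C] [SmallCategory D] {J : GrothendieckTopology C}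
  {K : GrothendieckTopology D} {O_C : Sheaf J CommRingCat.{u}} {O_D : Sheaf K CommRingCat.{u}}
  (f : ModSite.RMor O_C O_D)

/-- Generators along a morphism. -/
def mapGen {F G : ModSite.Mod O_D} (α : F ⟶ G) {V : C} (e : Σ i : Idx F, V ⟶ f.fn.obj i.1) :
    Σ i : Idx G, V ⟶ f.fn.obj i.1 :=
  ⟨⟨e.1.1, α.val.app (op e.1.1) e.1.2⟩, e.2⟩

theorem mapGen_injective {F G : ModSite.Mod O_D} (α : F ⟶ G) [Mono α] {V : C} :
    Function.Injective (mapGen f α (V := V)) := by
  rintro ⟨⟨U, m⟩, p⟩ ⟨⟨U', m'⟩, p'⟩ h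
  obtain ⟨h₁, h₂⟩ := Sigma.mk.inj_iff.1 h
  obtain ⟨rfl, h₁⟩ := Sigma.mk.inj_iff.1 h₁
  obtain rfl := app_injective α U (eq_of_heq h₁)
  exact congrArg _ (eq_of_heq h₂)

theorem map_pullSec {F G : ModSite.Mod O_D} (α : F ⟶ G) {U : D} (m : ModSite.sect F U) :
    (f.pull.map α).val.app (op (f.fn.obj U)) (pullSec f F m) = pullSec f G (α.val.app (op U) m) :=
  (congrArg (fun k => k.val.app (op U) m) (f.adj.unit.naturality α)).symm

theorem FlatRel25_eq_zero_of_locally (P : ModSite.Mod O_C) {V : C} {S : Sieve V} (hS : S ∈ J V) {a : ModSite.sect P V}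
    (h : ∀ ⦃V' : C⦄ (g : V' ⟶ V), S g → FlatRel25.res P g a = 0) : a = 0 := by
  have hP : Presheaf.IsSheaf J (P.val.presheaf ⋙ forget AddCommGrpCat.{u}) :=
    ((sheafCompose J (forget AddCommGrpCat.{u})).obj ⟨P.val.presheaf, P.isSheaf⟩).property
  exact (((isSheaf_iff_isSheaf_of_type _ _).1 hP).isSeparated S hS).ext fun V' g hg =>
    (h g hg).trans (map_zero (FlatRel25.res P g)).symm

theorem freeMap_mapGen {F G : ModSite.Mod O_D} (α : F ⟶ G) {V V' : C} (g : V' ⟶ V)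
    (y : (freeGens f F).obj (op V)) :
    (freeGens f G).map g.op (show (freeGens f G).obj (op V) from Finsupp.mapDomain (mapGen f α)
      (show (Σ i : Idx F, V ⟶ f.fn.obj i.1) →₀ O_C.obj.obj (op V) from y)) =
      (show (freeGens f G).obj (op V') from Finsupp.mapDomain (mapGen f α)
        (show (Σ i : Idx F, V' ⟶ f.fn.obj i.1) →₀ O_C.obj.obj (op V') from (freeGens f F).map g.op y)) := by
  let L₁ : ((Σ i : Idx F, V ⟶ f.fn.obj i.1) →₀ O_C.obj.obj (op V)) →+
      ((Σ i : Idx G, V' ⟶ f.fn.obj i.1) →₀ O_C.obj.obj (op V')) :=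
    ((freeGens f G).presheaf.map g.op).hom.comp (Finsupp.mapDomain.addMonoidHom (mapGen f α))
  let L₂ : ((Σ i : Idx F, V ⟶ f.fn.obj i.1) →₀ O_C.obj.obj (op V)) →+
      ((Σ i : Idx G, V' ⟶ f.fn.obj i.1) →₀ O_C.obj.obj (op V')) :=
    (Finsupp.mapDomain.addMonoidHom (mapGen f α)).comp ((freeGens f F).presheaf.map g.op).hom
  suffices h : L₁ = L₂ from DFunLike.congr_fun h y
  refine Finsupp.addHom_ext fun x c => ?_
  refine (congrArg ((freeGens f G).map g.op) (Finsupp.mapDomain_single (f := mapGen f α) (a := x) (b := c))).trans ?_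
  refine (freeMap_single f G g (mapGen f α x) c).trans ?_
  exact ((congrArg (Finsupp.mapDomain (mapGen f α)) (freeMap_single f F g x c)).trans
    Finsupp.mapDomain_single).symm

/-- Monomorphisms with flat cokernel stay monomorphisms. -/
theorem pull_app_eq_zero (S : ShortComplex (ModSite.Mod O_D)) (hS : S.ShortExact) (hH : FlatRel25.LocRel S.X₃)
    {V₀ : C} (z : ModSite.sect (f.pull.obj S.X₁) V₀) (hz : (f.pull.map S.f).val.app (op V₀) z = 0) : z = 0 := by
  classical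
  have := hS.mono_f
  have := hS.epi_g
  -- locally a combination
  obtain ⟨S₀, hS₀, h₀⟩ := exists_lam f S.X₁ z
  refine FlatRel25_eq_zero_of_locally _ hS₀ fun V₁ g₁ hg₁ => ?_
  obtain ⟨y₁, hy₁⟩ := h₀ g₁ hg₁
  rw [← hy₁]
  have hlamG : ∀ {V : C} (y : (freeGens f S.X₁).obj (op V)),
      (lam f S.X₂).app (op V) (show (Σ i : Idx S.X₂, V ⟶ f.fn.obj i.1) →₀ O_C.obj.obj (op V) from
        Finsupp.mapDomain (mapGen f S.f) (show (Σ i : Idx S.X₁, V ⟶ f.fn.obj i.1) →₀ O_C.obj.obj (op V) from y)) =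
      (f.pull.map S.f).val.app (op V) ((lam f S.X₁).app (op V) y) := by
    intro V y
    rw [lam_apply, lam_apply]
    refine (Finsupp.sum_mapDomain_index_inj (mapGen_injective f S.f)).trans ?_
    refine Eq.trans ?_ (map_sum ((f.pull.map S.f).val.app (op V)).hom _ _).symm
    refine Finset.sum_congr rfl fun e _ => ?_
    refine Eq.trans ?_ (((f.pull.map S.f).val.app (op V)).hom.map_smul _ _).symm
    refine congrArg (fun w : ModSite.sect (f.pull.obj S.X₂) V => _ • w) ?_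
    refine Eq.trans ?_ (PresheafOfModules.naturality_apply (f.pull.map S.f).val e.2.op _).symm
    exact congrArg (FlatRel25.res (f.pull.obj S.X₂) e.2) (map_pullSec f S.f e.1.2).symm
  have hy₁' : (f.pull.map S.f).val.app (op V₁) ((lam f S.X₁).app (op V₁) y₁) = 0 := by
    rw [hy₁]
    exact (PresheafOfModules.naturality_apply (f.pull.map S.f).val g₁.op z).trans
      ((congrArg ((f.pull.obj S.X₂).val.map g₁.op) hz).trans (map_zero _))
  obtain ⟨S₁, hS₁, h₁⟩ := exists_rel f S.X₂ _ ((hlamG y₁).trans hy₁')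
  refine FlatRel25_eq_zero_of_locally _ hS₁ fun V g hg => ?_
  obtain ⟨d, hd⟩ := h₁ g hg
  refine (PresheafOfModules.naturality_apply (lam f S.X₁) g.op y₁).symm.trans ?_
  let ys : (Σ i : Idx S.X₁, V ⟶ f.fn.obj i.1) →₀ O_C.obj.obj (op V) := (freeGens f S.X₁).map g.op y₁
  have hd' : (relMap f S.X₂).app (op V) d =
      (show (freeGens f S.X₂).obj (op V) from Finsupp.mapDomain (mapGen f S.f) ys) :=
    hd.trans (freeMap_mapGen f S.f g y₁)
  let ds : (Σ R : Rel S.X₂, V ⟶ f.fn.obj R.W) →₀ O_C.obj.obj (op V) := d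
  let tgt : (Σ R : {R // R ∈ ds.support}, {a // a ∈ R.1.1.r.support}) → (Σ i : Idx S.X₂, V ⟶ f.fn.obj i.1) :=
    fun k => ⟨k.2.1.1, k.1.1.2 ≫ f.fn.map k.2.1.2⟩
  let A : Finset (Σ i : Idx S.X₂, V ⟶ f.fn.obj i.1) :=
    ys.support.image (mapGen f S.f) ∪ Finset.univ.image tgt
  have htgt : ∀ k, tgt k ∈ A := fun k =>
    Finset.mem_union_right _ (Finset.mem_image.2 ⟨k, Finset.mem_univ k, rfl⟩)
  have hyA : ∀ e ∈ ys.support, mapGen f S.f e ∈ A := fun e he =>
    Finset.mem_union_left _ (Finset.mem_image.2 ⟨e, he, rfl⟩)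
  let ι := {e // e ∈ A} ⊕ {R // R ∈ ds.support}
  let U : ι → D := fun i => i.elim (fun e => e.1.1.1) (fun R => R.1.1.W)
  let p : ∀ i, V ⟶ f.fn.obj (U i) := fun i => match i with
    | .inl e => e.1.2
    | .inr R => R.1.2
  obtain ⟨S₂, hS₂, h₂⟩ := exists_merge (J := J) K f.fn U p
    (κ' := Σ R : {R // R ∈ ds.support}, {a // a ∈ R.1.1.r.support})
    (fun k => .inr k.1) (fun k => .inl ⟨tgt k, htgt k⟩) (fun k => k.2.1.2) (fun k => rfl)
  refine FlatRel25_eq_zero_of_locally _ hS₂ fun V₂ g₂ hg₂ => ?_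
  obtain ⟨W, q, l, hl, hc⟩ := h₂ g₂ hg₂
  let μ : {e // e ∈ A} → ModSite.sect S.X₂ W := fun e => FlatRel25.res S.X₂ (l (.inl e)) e.1.1.2
  let ρ : {R // R ∈ ds.support} → {e // e ∈ A} → O_D.obj.obj (op W) := fun R e =>
    ∑ a : {a // a ∈ R.1.1.r.support}, if tgt ⟨R, a⟩ = e.1 then FlatRel25.resR (l (.inr R)) (R.1.1.r a.1) else 0
  have hρ : ∀ R, ∑ e, ρ R e • μ e = 0 := fun R => by
    simp only [ρ, Finset.sum_smul, ite_smul, zero_smul]
    rw [Finset.sum_comm]
    have h := congrArg (FlatRel25.res S.X₂ (l (.inr R))) R.1.1.rel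
    simp only [Finsupp.sum] at h
    refine Eq.trans (Finset.sum_congr rfl fun a _ => ?_) ((Finset.sum_coe_sort R.1.1.r.support
      (fun a => FlatRel25.res S.X₂ (l (.inr R)) (R.1.1.r a • FlatRel25.res S.X₂ a.2 a.1.2))).trans
      ((map_sum (FlatRel25.res S.X₂ (l (.inr R))) _ _).symm.trans (h.trans (map_zero _))))
    rw [Finset.sum_eq_single (⟨tgt ⟨R, a⟩, htgt _⟩ : {e // e ∈ A})
      (fun e _ he => if_neg fun h' => he (Subtype.ext h'.symm)) (fun h' => absurd (Finset.mem_univ _) h')]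
    rw [if_pos rfl]
    refine Eq.trans ?_ (FlatRel25.res_smul S.X₂ _ _ _).symm
    refine congrArg (fun w : ModSite.sect S.X₂ W => FlatRel25.resR (l (.inr R)) (R.1.1.r a.1) • w) ?_
    refine Eq.trans ?_ (FlatRel25.res_res S.X₂ a.1.2 (l (.inr R)) a.1.1.2).symm
    exact congrArg (fun k => FlatRel25.res S.X₂ k a.1.1.2) (hc ⟨R, a⟩).symm
  -- classification of the generators
  let Im : {e // e ∈ A} → Prop := fun e => ∃ e₁, mapGen f S.f e₁ = e.1
  have hIm : ∀ e, Im e → ∃ n, S.f.val.app (op W) n = μ e := by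
    rintro ⟨e, he⟩ ⟨e₁, rfl⟩
    let le : W ⟶ e₁.1.1 := l (.inl ⟨mapGen f S.f e₁, he⟩)
    exact ⟨FlatRel25.res S.X₁ le e₁.1.2, PresheafOfModules.naturality_apply S.f.val le.op e₁.1.2⟩
  let π₁ : ModSite.sect S.X₂ W →ₗ[O_D.obj.obj (op W)] ModSite.sect S.X₃ W := (S.g.val.app (op W)).hom
  have hπι : ∀ n, π₁ (S.f.val.app (op W) n) = 0 := fun n =>
    congrArg (fun k => k.val.app (op W) n) S.zero
  let ρ' : {R // R ∈ ds.support} → {e // e ∈ A} → O_D.obj.obj (op W) := fun R e => if Im e then 0 else ρ R e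
  have hρ' : ∀ R ∈ (Finset.univ : Finset {R // R ∈ ds.support}), ∑ e, ρ' R e • π₁ (μ e) = 0 := fun R _ => by
    refine Eq.trans (Finset.sum_congr rfl fun e _ => ?_) (((map_sum π₁ _ _).symm.trans
      ((congrArg π₁ (hρ R)).trans (map_zero _))))
    by_cases he : Im e
    · obtain ⟨n, hn⟩ := hIm e he
      rw [map_smul, ← hn, hπι, smul_zero, smul_zero]
    · simp only [ρ', if_neg he, map_smul]
  obtain ⟨T₁, hT₁, hT₁'⟩ := exists_cover (J := J) K f.fn q (hH.finset ρ' (fun e => π₁ (μ e)) Finset.univ hρ')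
  refine FlatRel25_eq_zero_of_locally _ hT₁ fun V₃ g₃ hg₃ => ?_
  obtain ⟨W₁, c₁, q₁, ⟨k, t, a, ha₁, ha₂⟩, hq₁⟩ := hT₁' g₃ hg₃
  obtain ⟨T₂, hT₂, hT₂'⟩ := exists_lifts S.g k t
  obtain ⟨T₃, hT₃, hT₃'⟩ := exists_cover (J := J) K f.fn q₁ hT₂
  refine FlatRel25_eq_zero_of_locally _ hT₃ fun V₄ g₄ hg₄ => ?_
  obtain ⟨W₂, c₂, q₂, hc₂, hq₂⟩ := hT₃' g₄ hg₄
  obtain ⟨gl, hgl⟩ := hT₂' c₂ hc₂
  let c := c₂ ≫ c₁
  let a' : {e // e ∈ A} → Fin k → O_D.obj.obj (op W₂) := fun e j =>
    if Im e then 0 else FlatRel25.resR c₂ (a e j)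
  let π₂ : ModSite.sect S.X₂ W₂ →ₗ[O_D.obj.obj (op W₂)] ModSite.sect S.X₃ W₂ := (S.g.val.app (op W₂)).hom
  let ι₂ : ModSite.sect S.X₁ W₂ →ₗ[O_D.obj.obj (op W₂)] ModSite.sect S.X₂ W₂ := (S.f.val.app (op W₂)).hom
  have hμ : ∀ e, π₂ (FlatRel25.res S.X₂ c (μ e)) = FlatRel25.res S.X₃ c₂ (FlatRel25.res S.X₃ c₁ (π₁ (μ e))) := by
    intro e
    exact (PresheafOfModules.naturality_apply S.g.val c.op (μ e)).trans (FlatRel25.res_res S.X₃ c₁ c₂ _).symm
  have hn : ∀ e, ∃ n, ι₂ n = FlatRel25.res S.X₂ c (μ e) - ∑ j, a' e j • gl j ∧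
      (∀ e₁ (h : mapGen f S.f e₁ = e.1), ∀ le : W ⟶ e₁.1.1,
        HEq le (l (.inl e)) → n = FlatRel25.res S.X₁ (c ≫ le) e₁.1.2) := by
    intro e
    by_cases he : Im e
    · obtain ⟨e₁, he₁⟩ := he
      obtain ⟨e, heA⟩ := e
      subst he₁
      let le : W ⟶ e₁.1.1 := l (.inl ⟨mapGen f S.f e₁, heA⟩)
      refine ⟨FlatRel25.res S.X₁ (c ≫ le) e₁.1.2, ?_, fun e₂ h₂ le' hle' => ?_⟩
      · simp only [a', if_pos (show Im ⟨mapGen f S.f e₁, heA⟩ from ⟨e₁, rfl⟩), zero_smul, Finset.sum_const_zero,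
          sub_zero]
        refine Eq.trans ?_ (FlatRel25.res_res S.X₂ le c _).symm
        exact PresheafOfModules.naturality_apply S.f.val (c ≫ le).op e₁.1.2
      · obtain rfl := mapGen_injective f S.f h₂
        rw [eq_of_heq hle']
    · obtain ⟨n, hn⟩ := exists_kernel_section hS (FlatRel25.res S.X₂ c (μ e) - ∑ j, a' e j • gl j) (by
        change π₂ _ = 0
        rw [map_sub, sub_eq_zero, hμ, ha₁, map_sum, map_sum]
        refine Finset.sum_congr rfl fun j _ => ?_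
        rw [FlatRel25.res_smul, map_smul, ← hgl j]
        simp only [a', if_neg he]
        rfl)
      exact ⟨n, hn, fun e₁ h₁ => absurd ⟨e₁, h₁⟩ he⟩
  choose nn hnn hnn' using hn
  have hrelF : ∀ R, ∑ e, FlatRel25.resR c (ρ R e) • nn e = 0 := by
    intro R
    refine app_injective S.f W₂ (Eq.trans ?_ (map_zero _).symm)
    refine (map_sum ι₂ _ _).trans ?_
    simp only [map_smul, hnn, smul_sub, Finset.smul_sum, Finset.sum_sub_distrib]
    rw [sub_eq_zero]
    refine Eq.trans ?_ (Eq.symm ?_) (b := (0 : ModSite.sect S.X₂ W₂))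
    · refine Eq.trans (Finset.sum_congr rfl fun e _ => (FlatRel25.res_smul S.X₂ c _ _).symm) ?_
      exact (map_sum (FlatRel25.res S.X₂ c) _ _).symm.trans ((congrArg _ (hρ R)).trans (map_zero _))
    · rw [Finset.sum_comm]
      refine Finset.sum_eq_zero fun j _ => ?_
      simp only [smul_smul]
      rw [← Finset.sum_smul]
      refine Eq.trans (congrArg (· • gl j) ?_) (zero_smul _ _)
      have h0 := congrArg (FlatRel25.resR c₂) (ha₂ ⟨R, Finset.mem_univ R⟩ j)
      simp only [FlatRel25.resR, map_sum, map_mul, map_zero] at h0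
      refine Eq.trans (Finset.sum_congr rfl fun e _ => ?_) h0
      by_cases he : Im e
      · simp only [a', ρ', if_pos he, map_zero, mul_zero]
      · simp only [a', ρ', if_neg he]
        rw [mul_comm]
        exact congrArg (_ * ·) (FlatRel25.resR_resR c₁ c₂ _).symm
  -- conclusion
  let gg := g₄ ≫ g₃ ≫ g₂
  have hqc : q₂ ≫ f.fn.map c = (g₄ ≫ g₃) ≫ q := by
    rw [f.fn.map_comp, reassoc_of% hq₂, hq₁, Category.assoc]
  rw [FlatRel25.res_res, FlatRel25.res_res, Category.assoc]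
  change FlatRel25.res (f.pull.obj S.X₁) gg ((lam f S.X₁).app (op V) ys) = 0
  let N : {e // e ∈ A} → ModSite.sect (f.pull.obj S.X₁) V₄ := fun e =>
    FlatRel25.res (f.pull.obj S.X₁) q₂ (pullSec f S.X₁ (nn e))
  have hzero : ∀ R, ∑ e, coef f q₂ (FlatRel25.resR c (ρ R e)) • N e = 0 := by
    intro R
    refine Eq.trans (Finset.sum_congr rfl fun e _ => (res_pullSec_smul f S.X₁ q₂ _ _).symm) ?_
    rw [← map_sum, ← pullSec_sum, hrelF R]
    exact (congrArg (FlatRel25.res (f.pull.obj S.X₁) q₂)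
      (map_zero ((f.adj.unit.app S.X₁).val.app (op W₂)).hom)).trans (map_zero _)
  let Φ : ((Σ i : Idx S.X₂, V ⟶ f.fn.obj i.1) →₀ O_C.obj.obj (op V)) →+ ModSite.sect (f.pull.obj S.X₁) V₄ :=
    AddMonoidHom.mk' (fun x => ∑ e : {e // e ∈ A}, FlatRel25.resR gg (x e.1) • N e) (fun x x' => by
      simp only [Finsupp.add_apply, FlatRel25.resR, map_add, add_smul, Finset.sum_add_distrib])
  have h₁ : FlatRel25.res (f.pull.obj S.X₁) gg ((lam f S.X₁).app (op V) ys) =
      Φ (Finsupp.mapDomain (mapGen f S.f) ys) := by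
    refine (congrArg (FlatRel25.res (f.pull.obj S.X₁) gg) (lam_apply f ys)).trans ?_
    simp only [Finsupp.sum]
    rw [map_sum, ← Finsupp.sum_single (Finsupp.mapDomain (mapGen f S.f) ys), map_finsuppSum,
      Finsupp.sum_mapDomain_index_inj (mapGen_injective f S.f), Finsupp.sum]
    refine Finset.sum_congr rfl fun e he => ?_
    change _ = ∑ e' : {e' // e' ∈ A}, _
    rw [Finset.sum_eq_single (⟨mapGen f S.f e, hyA e he⟩ : {e' // e' ∈ A})
      (fun e' _ he' => by
        rw [Finsupp.single_eq_of_ne fun h => he' (Subtype.ext h)]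
        simp [FlatRel25.resR])
      (fun h => absurd (Finset.mem_univ _) h), Finsupp.single_eq_same]
    refine (FlatRel25.res_smul (f.pull.obj S.X₁) gg _ _).trans ?_
    refine congrArg (fun w : ModSite.sect (f.pull.obj S.X₁) V₄ => FlatRel25.resR gg (ys e) • w) ?_
    let le : W ⟶ e.1.1 := l (.inl ⟨mapGen f S.f e, hyA e he⟩)
    have e1 : gg ≫ e.2 = q₂ ≫ f.fn.map (c ≫ le) := by
      rw [f.fn.map_comp, reassoc_of% hqc]
      simp only [gg, Category.assoc]
      exact congrArg (fun k => g₄ ≫ g₃ ≫ k) (hl (.inl ⟨mapGen f S.f e, hyA e he⟩)).symm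
    rw [FlatRel25.res_res, e1, ← FlatRel25.res_res, ← pullSec_natural]
    exact congrArg (fun w => FlatRel25.res (f.pull.obj S.X₁) q₂ (pullSec f S.X₁ w))
      (hnn' ⟨mapGen f S.f e, hyA e he⟩ e rfl le HEq.rfl).symm
  refine h₁.trans ?_
  have hsmul : ∀ (r : O_C.obj.obj (op V)) x, Φ (r • x) = FlatRel25.resR gg r • Φ x := fun r x => by
    change ∑ e : {e // e ∈ A}, _ = _ • ∑ e : {e // e ∈ A}, _
    rw [Finset.smul_sum]
    exact Finset.sum_congr rfl fun e _ => by simp [FlatRel25.resR, smul_smul]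
  have hd'' : ds.sum (fun R r => r • (show (Σ i : Idx S.X₂, V ⟶ f.fn.obj i.1) →₀ O_C.obj.obj (op V) from
      relVec f S.X₂ (V := V) R)) = Finsupp.mapDomain (mapGen f S.f) ys := (relMap_apply f d).symm.trans hd'
  rw [← hd'', Finsupp.sum, map_sum, ← Finset.sum_coe_sort]
  refine Finset.sum_eq_zero fun R _ => ?_
  rw [hsmul]
  refine (congrArg (FlatRel25.resR gg (ds R.1) • ·) (Eq.trans ?_ (hzero R))).trans (smul_zero _)
  rw [show relVec f S.X₂ R.1 = R.1.1.r.sum fun b r' => coef f R.1.2 r' •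
    (show (Σ i : Idx S.X₂, V ⟶ f.fn.obj i.1) →₀ O_C.obj.obj (op V) from
      Finsupp.single ⟨b.1, R.1.2 ≫ f.fn.map b.2⟩ 1) from rfl]
  rw [Finsupp.sum, map_sum, ← Finset.sum_coe_sort]
  simp only [ρ, FlatRel25.resR, map_sum, Finset.sum_smul]
  rw [Finset.sum_comm (γ := {e // e ∈ A})]
  refine Finset.sum_congr rfl fun b _ => ?_
  rw [hsmul, Finset.sum_eq_single (⟨tgt ⟨R, b⟩, htgt _⟩ : {e // e ∈ A})
    (fun e _ he => by rw [if_neg fun h' => he (Subtype.ext h'.symm)]; simp) (fun h' => absurd (Finset.mem_univ _) h'),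
    if_pos rfl]
  have hΦ : Φ (Finsupp.single (tgt ⟨R, b⟩) 1) = N ⟨tgt ⟨R, b⟩, htgt _⟩ := by
    change ∑ e : {e // e ∈ A}, _ = _
    rw [Finset.sum_eq_single (⟨tgt ⟨R, b⟩, htgt _⟩ : {e // e ∈ A})
      (fun e _ he => by
        rw [Finsupp.single_eq_of_ne fun h => he (Subtype.ext h)]
        simp [FlatRel25.resR])
      (fun h' => absurd (Finset.mem_univ _) h')]
    simp [FlatRel25.resR]
  refine (congrArg (_ • ·) hΦ).trans (congrArg (· • N ⟨tgt ⟨R, b⟩, htgt _⟩) ?_)
  refine (coef_resR f R.1.2 gg (R.1.1.r b.1)).trans ?_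
  refine Eq.trans ?_ (coef_map f c q₂ _).symm
  refine Eq.trans ?_ (coef_map f (l (.inr R)) (q₂ ≫ f.fn.map c) _).symm
  refine congrArg (fun w => coef f w (R.1.1.r b.1)) ?_
  rw [hqc]
  simp only [gg, Category.assoc]
  exact congrArg (fun k => g₄ ≫ g₃ ≫ k) (hl (.inr R)).symm

/-- The inverse image of a short exact sequence with flat quotient is short exact. -/
theorem shortExact_pull (S : ShortComplex (ModSite.Mod O_D)) (hS : S.ShortExact) (hH : ModSite.IsFlat S.X₃) :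
    (S.map f.pull).ShortExact := by
  have : Epi S.g := hS.epi_g
  have : PreservesColimitsOfSize.{0, 0} f.pull := f.adj.leftAdjoint_preservesColimits
  have hm : Mono (f.pull.map S.f) := by
    apply (SheafOfModules.toSheaf (ModSite.ringSh O_C) ⋙ sheafToPresheaf J AddCommGrpCat.{u}).mono_of_mono_map
    refine @NatTrans.mono_of_mono_app _ _ _ _ _ _ _ fun V => ?_
    rw [AddCommGrpCat.mono_iff_injective]
    refine (injective_iff_map_eq_zero _).2 fun z hz => ?_
    exact pull_app_eq_zero f S hS (FlatRel25.locRel_of_isFlat hH) z hz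
  exact { exact := hS.exact.map_of_epi_of_preservesCokernel f.pull inferInstance inferInstance
          mono_f := hm
          epi_g := inferInstanceAs (Epi (f.pull.map S.g)) }

end GrothLib.PullLoc25
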