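import Groth.Agent.Lib.ModFlat.Basic
import Groth.Agent.Lib.FlatRel25.Local
import Mathlib.Algebra.Category.ModuleCat.Presheaf.EpiMono
import Mathlib.Algebra.Homology.ShortComplex.ModuleCat

/-!
# A presentation of the inverse image of a module

The inverse image `f^*M` is the sheafification of the free presheaf on the restricted sections
`(U, m, g : V ⟶ f(U))` modulo the pulled back linear relations of `M`.
-/

set_option autoImplicit false
universe u

open CategoryTheory CategoryTheory.Limits Opposite GrothLib.SheafCoh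

namespace GrothLib.PullLoc25

variable {C D : Type u} [SmallCategory C] [SmallCategory D] {J : GrothendieckTopology C}
  {K : GrothendieckTopology D} {O_C : Sheaf J CommRingCat.{u}} {O_D : Sheaf K CommRingCat.{u}}
  (f : ModSite.RMor O_C O_D) (M : ModSite.Mod O_D)

/-- Sections of `M` over some object. -/
abbrev Idx : Type u := Σ U : D, ModSite.sect M U

/-- The pulled back sections. -/
def gens : Cᵒᵖ ⥤ Type u where
  obj V := Σ i : Idx M, V.unop ⟶ f.fn.obj i.1
  map g := ↾fun x => ⟨x.1, g.unop ≫ x.2⟩

/-- A linear relation between restrictions of sections. -/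
structure Rel where
  /-- The object. -/
  W : D
  /-- The coefficients. -/
  r : (Σ i : Idx M, W ⟶ i.1) →₀ O_D.obj.obj (op W)
  rel : r.sum (fun a c => c • FlatRel25.res M a.2 a.1.2) = 0

/-- The pulled back relations. -/
def rels : Cᵒᵖ ⥤ Type u where
  obj V := Σ R : Rel M, V.unop ⟶ f.fn.obj R.W
  map g := ↾fun x => ⟨x.1, g.unop ≫ x.2⟩

/-- The structure map on sections. -/
noncomputable def sh (W : D) : O_D.obj.obj (op W) →+* O_C.obj.obj (op (f.fn.obj W)) :=
  (f.sharp.hom.app (op W)).hom

omit f in
theorem res_id {W : D} (m : ModSite.sect M W) : FlatRel25.res M (𝟙 W) m = m := by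
  exact (congrArg (fun k => k m) (M.val.map_id (op W))).trans rfl

/-- Scalars of `O_D` acting on `O_C` over an object mapping to an image. -/
noncomputable def coef {V : C} {W : D} (q : V ⟶ f.fn.obj W) :
    O_D.obj.obj (op W) →+* O_C.obj.obj (op V) :=
  (O_C.obj.map q.op).hom.comp (sh f W)

theorem coef_resR {V : C} {W : D} (q : V ⟶ f.fn.obj W) {V' : C} (g : V' ⟶ V) (c : O_D.obj.obj (op W)) :
    FlatRel25.resR g (coef f q c) = coef f (g ≫ q) c := by
  simp only [coef, RingHom.coe_comp, Function.comp_apply]
  exact FlatRel25.resR_resR q g _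

theorem coef_map {V : C} {W W' : D} (a : W' ⟶ W) (q : V ⟶ f.fn.obj W') (c : O_D.obj.obj (op W)) :
    coef f q (FlatRel25.resR a c) = coef f (q ≫ f.fn.map a) c := by
  simp only [coef, RingHom.coe_comp, Function.comp_apply]
  refine (congrArg (O_C.obj.map q.op) (ConcreteCategory.congr_hom (f.sharp.hom.naturality a.op) c)).trans ?_
  exact FlatRel25.resR_resR (f.fn.map a) q _

/-- The free presheaf on the pulled back sections. -/
noncomputable abbrev freeGens : PMod' O_C :=
  PresheafOfModules.freeObj (R := O_C.obj ⋙ forget₂ CommRingCat.{u} RingCat.{u}) (gens f M)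

/-- The free presheaf on the pulled back relations. -/
noncomputable abbrev freeRels : PMod' O_C :=
  PresheafOfModules.freeObj (R := O_C.obj ⋙ forget₂ CommRingCat.{u} RingCat.{u}) (rels f M)

/-- A generator. -/
noncomputable def gen' {V : C} (x : (gens f M).obj (op V)) : (freeGens f M).obj (op V) := ModuleCat.freeMk x

theorem gen'_map {V V' : C} (g : V' ⟶ V) (x : (gens f M).obj (op V)) :
    (freeGens f M).map g.op (gen' f M x) = gen' f M ((gens f M).map g.op x) :=
  ModuleCat.freeDesc_apply (M := (ModuleCat.restrictScalars _).obj ((freeGens f M).obj (op V'))) _ x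

/-- The combination of generators attached to a pulled back relation. -/
noncomputable def relVec {V : C} (x : (rels f M).obj (op V)) : (freeGens f M).obj (op V) :=
  x.1.r.sum fun a c => coef f x.2 c • gen' f M ⟨a.1, x.2 ≫ f.fn.map a.2⟩

/-- The map from relations to generators. -/
noncomputable def relMap : freeRels f M ⟶ freeGens f M :=
  PresheafOfModules.freeObjDesc
    { app := fun V => ↾fun x => relVec f M x
      naturality := fun V V' g => by
        ext x
        obtain ⟨V⟩ := V
        obtain ⟨V'⟩ := V'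
        obtain ⟨g, rfl⟩ : ∃ h : V' ⟶ V, h.op = g := ⟨g.unop, rfl⟩
        change relVec f M (V := V') ⟨x.1, g ≫ x.2⟩ = (freeGens f M).map g.op (relVec f M x)
        simp only [relVec, Finsupp.sum]
        rw [map_sum]
        refine Finset.sum_congr rfl fun a _ => ?_
        refine Eq.trans ?_ ((freeGens f M).map_smul g.op _ _).symm
        rw [gen'_map]
        refine congrArg₂ (fun (r : O_C.obj.obj (op V')) (m : (freeGens f M).obj (op V')) => r • m)
          (coef_resR f x.2 g _).symm ?_
        exact congrArg (fun q => gen' f M (V := V') ⟨a.1, q⟩) (Category.assoc _ _ _) }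

/-- The presheaf presentation. -/
noncomputable abbrev pre : PMod' O_C := cokernel (relMap f M)

/-- The image of a section. -/
noncomputable def pullSec {U : D} (m : ModSite.sect M U) : ModSite.sect (f.pull.obj M) (f.fn.obj U) :=
  (f.adj.unit.app M).val.app (op U) m

theorem pullSec_natural {U U' : D} (a : U' ⟶ U) (m : ModSite.sect M U) :
    pullSec f M (FlatRel25.res M a m) =
      FlatRel25.res (f.pull.obj M) (f.fn.map a) (pullSec f M m) :=
  PresheafOfModules.naturality_apply (f.adj.unit.app M).val a.op m

theorem pullSec_sum {W : D} {α : Type*} (T : Finset α) (m : α → ModSite.sect M W) :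
    pullSec f M (∑ a ∈ T, m a) = ∑ a ∈ T, pullSec f M (m a) :=
  map_sum ((f.adj.unit.app M).val.app (op W)).hom m T

theorem pullSec_smul {W : D} (c : O_D.obj.obj (op W)) (m : ModSite.sect M W) :
    pullSec f M (c • m) = sh f W c • pullSec f M m :=
  ((f.adj.unit.app M).val.app (op W)).hom.map_smul c m

theorem res_pullSec_smul {V : C} {W : D} (q : V ⟶ f.fn.obj W) (c : O_D.obj.obj (op W)) (m : ModSite.sect M W) :
    FlatRel25.res (f.pull.obj M) q (pullSec f M (c • m)) =
      coef f q c • FlatRel25.res (f.pull.obj M) q (pullSec f M m) := by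
  rw [pullSec_smul, FlatRel25.res_smul]
  rfl

/-- The evaluation of generators in the inverse image. -/
noncomputable def lam : freeGens f M ⟶ (forgetP O_C).obj (f.pull.obj M) :=
  PresheafOfModules.freeObjDesc
    { app := fun V => ↾fun x => FlatRel25.res (f.pull.obj M) x.2 (pullSec f M x.1.2)
      naturality := fun V V' g => by
        ext x
        exact (FlatRel25.res_res (F := f.pull.obj M) x.2 g.unop _).symm }

theorem lam_gen' {V : C} (x : (gens f M).obj (op V)) :
    (lam f M).app (op V) (gen' f M x) = FlatRel25.res (f.pull.obj M) x.2 (pullSec f M x.1.2) :=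
  ModuleCat.freeDesc_apply (M := ((forgetP O_C).obj (f.pull.obj M)).obj (op V)) _ x

theorem relMap_lam : relMap f M ≫ lam f M = 0 := by
  refine PresheafOfModules.hom_ext fun V => ModuleCat.free_hom_ext fun x => ?_
  obtain ⟨V⟩ := V
  change (lam f M).app (op V) ((relMap f M).app (op V) (ModuleCat.freeMk x)) = 0
  have e : (relMap f M).app (op V) (ModuleCat.freeMk x) = relVec f M x :=
    ModuleCat.freeDesc_apply (M := (freeGens f M).obj (op V)) _ x
  rw [e, relVec, Finsupp.sum]
  refine (map_sum ((lam f M).app (op V)).hom _ _).trans ?_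
  have h := congrArg (fun m => FlatRel25.res (f.pull.obj M) x.2 (pullSec f M m)) x.1.rel
  simp only [Finsupp.sum] at h
  rw [pullSec_sum, map_sum] at h
  refine Eq.trans (Finset.sum_congr rfl fun a _ => ?_) (h.trans ?_)
  · refine (((lam f M).app (op V)).hom.map_smul _ _).trans ?_
    rw [res_pullSec_smul, pullSec_natural, FlatRel25.res_res]
    exact congrArg (coef f x.2 (x.1.r a) • ·) (lam_gen' f M _)
  · exact (congrArg (FlatRel25.res (f.pull.obj M) x.2) (map_zero ((f.adj.unit.app M).val.app (op x.1.W)).hom)).trans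
      (map_zero _)

/-- The comparison. -/
noncomputable def lamBar : pre f M ⟶ (forgetP O_C).obj (f.pull.obj M) :=
  cokernel.desc _ (lam f M) (relMap_lam f M)

/-- The class of a generator. -/
noncomputable def cls {V : C} (x : (gens f M).obj (op V)) : ModSite.sect ((shf O_C).obj (pre f M)) V :=
  ((shfAdj O_C).unit.app (pre f M)).app (op V) ((cokernel.π (relMap f M)).app (op V) (gen' f M x))

theorem cls_res {V V' : C} (g : V' ⟶ V) (x : (gens f M).obj (op V)) :
    FlatRel25.res ((shf O_C).obj (pre f M)) g (cls f M x) = cls f M ((gens f M).map g.op x) := by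
  refine (PresheafOfModules.naturality_apply ((shfAdj O_C).unit.app (pre f M)) g.op _).symm.trans ?_
  refine congrArg (((shfAdj O_C).unit.app (pre f M)).app (op V')) ?_
  refine (PresheafOfModules.naturality_apply (cokernel.π (relMap f M)) g.op _).symm.trans ?_
  exact congrArg ((cokernel.π (relMap f M)).app (op V')) (gen'_map f M g x)

/-- The class of a combination. -/
noncomputable def clsLin (V : C) : (freeGens f M).obj (op V) →ₗ[O_C.obj.obj (op V)] ModSite.sect ((shf O_C).obj (pre f M)) V :=
  ((cokernel.π (relMap f M) ≫ (shfAdj O_C).unit.app (pre f M)).app (op V)).hom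

theorem clsLin_relVec (R : Rel M) : clsLin f M (f.fn.obj R.W) (relVec f M ⟨R, 𝟙 _⟩) = 0 := by
  have e : (relMap f M).app (op (f.fn.obj R.W)) (ModuleCat.freeMk ⟨R, 𝟙 _⟩) = relVec f M ⟨R, 𝟙 _⟩ :=
    ModuleCat.freeDesc_apply (M := (freeGens f M).obj _) _ _
  rw [← e]
  have h := congrArg (fun k => k.app (op (f.fn.obj R.W)) (ModuleCat.freeMk (show (rels f M).obj (op (f.fn.obj R.W)) from ⟨R, 𝟙 _⟩)))
    ((cokernel.condition_assoc (relMap f M) ((shfAdj O_C).unit.app (pre f M))).trans zero_comp)
  exact h

/-- The value of a relation. -/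
theorem clsLin_rel {W : D} (r : (Σ i : Idx M, W ⟶ i.1) →₀ O_D.obj.obj (op W))
    (hr : r.sum (fun a c => c • FlatRel25.res M a.2 a.1.2) = 0) :
    (r.sum fun a c => sh f W c • cls f M (V := f.fn.obj W) ⟨a.1, f.fn.map a.2⟩) = 0 := by
  refine Eq.trans ?_ (clsLin_relVec f M ⟨W, r, hr⟩)
  simp only [relVec, Finsupp.sum]
  rw [map_sum]
  refine Finset.sum_congr rfl fun a _ => ?_
  rw [map_smul]
  refine congrArg₂ (fun (c : O_C.obj.obj (op (f.fn.obj W))) m => c • m) ?_ ?_
  · exact (ConcreteCategory.congr_hom (O_C.obj.map_id (op (f.fn.obj W))) _).symm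
  · exact congrArg (fun q => cls f M (V := f.fn.obj W) ⟨a.1, q⟩) (Category.id_comp _).symm

/-- The class of a section. -/
noncomputable def beta₀ {U : D} (m : ModSite.sect M U) : ModSite.sect ((shf O_C).obj (pre f M)) (f.fn.obj U) :=
  cls f M (V := f.fn.obj U) ⟨⟨U, m⟩, f.fn.map (𝟙 U)⟩

theorem beta₀_add {U : D} (m m' : ModSite.sect M U) : beta₀ f M (m + m') = beta₀ f M m + beta₀ f M m' := by
  have h := clsLin_rel f M (W := U)
    (Finsupp.single ⟨⟨U, m + m'⟩, 𝟙 U⟩ 1 + Finsupp.single ⟨⟨U, m⟩, 𝟙 U⟩ (-1) + Finsupp.single ⟨⟨U, m'⟩, 𝟙 U⟩ (-1)) (by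
      classical
      rw [Finsupp.sum_add_index' (by simp) (fun _ _ _ => add_smul _ _ _), Finsupp.sum_add_index' (by simp)
        (fun _ _ _ => add_smul _ _ _), Finsupp.sum_single_index (by simp), Finsupp.sum_single_index (by simp),
        Finsupp.sum_single_index (by simp)]
      simp only [one_smul, neg_smul, res_id]
      abel)
  classical
  rw [Finsupp.sum_add_index' (by simp) (fun _ _ _ => by rw [map_add, add_smul]), Finsupp.sum_add_index' (by simp)
        (fun _ _ _ => by rw [map_add, add_smul]), Finsupp.sum_single_index (by simp), Finsupp.sum_single_index (by simp),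
        Finsupp.sum_single_index (by simp)] at h
  simp only [map_one, map_neg, one_smul, neg_smul] at h
  rw [← sub_eq_zero]
  refine Eq.trans ?_ h
  simp only [beta₀]
  abel

theorem beta₀_smul {U : D} (c : O_D.obj.obj (op U)) (m : ModSite.sect M U) :
    beta₀ f M (c • m) = sh f U c • beta₀ f M m := by
  have h := clsLin_rel f M (W := U)
    (Finsupp.single ⟨⟨U, c • m⟩, 𝟙 U⟩ 1 + Finsupp.single ⟨⟨U, m⟩, 𝟙 U⟩ (-c)) (by
      classical
      rw [Finsupp.sum_add_index' (by simp) (fun _ _ _ => add_smul _ _ _), Finsupp.sum_single_index (by simp),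
        Finsupp.sum_single_index (by simp)]
      simp only [one_smul, neg_smul, res_id]
      abel)
  classical
  rw [Finsupp.sum_add_index' (by simp) (fun _ _ _ => by rw [map_add, add_smul]), Finsupp.sum_single_index (by simp),
        Finsupp.sum_single_index (by simp)] at h
  simp only [map_one, map_neg, one_smul, neg_smul] at h
  rw [← sub_eq_zero]
  refine Eq.trans ?_ h
  simp only [beta₀]
  abel

theorem beta₀_map {U U' : D} (a : U' ⟶ U) (m : ModSite.sect M U) :
    beta₀ f M (FlatRel25.res M a m) =
      FlatRel25.res ((shf O_C).obj (pre f M)) (f.fn.map a) (beta₀ f M m) := by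
  have h := clsLin_rel f M (W := U')
    (Finsupp.single ⟨⟨U, m⟩, a⟩ 1 + Finsupp.single ⟨⟨U', FlatRel25.res M a m⟩, 𝟙 U'⟩ (-1)) (by
      classical
      rw [Finsupp.sum_add_index' (by simp) (fun _ _ _ => add_smul _ _ _), Finsupp.sum_single_index (by simp),
        Finsupp.sum_single_index (by simp)]
      simp only [one_smul, neg_smul, res_id]
      exact add_neg_cancel _)
  classical
  rw [Finsupp.sum_add_index' (by simp) (fun _ _ _ => by rw [map_add, add_smul]), Finsupp.sum_single_index (by simp),
        Finsupp.sum_single_index (by simp)] at h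
  simp only [map_one, map_neg, one_smul, neg_smul] at h
  refine (sub_eq_zero.1 ((sub_eq_add_neg _ _).trans h)).symm.trans ?_
  refine Eq.trans ?_ (cls_res f M (f.fn.map a) _).symm
  exact congrArg (fun q => cls f M (V := f.fn.obj U') ⟨⟨U, m⟩, q⟩)
    ((Category.comp_id _).symm.trans (congrArg (f.fn.map a ≫ ·) (f.fn.map_id U).symm))

/-- The section map into the presentation. -/
noncomputable def beta : M ⟶ f.push.obj ((shf O_C).obj (pre f M)) :=
  ⟨PresheafOfModules.homMk
    { app := fun U => AddCommGrpCat.ofHom (AddMonoidHom.mk' (fun m => beta₀ f M (U := U.unop) m)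
        (fun m m' => beta₀_add f M m m'))
      naturality := fun U U' a => by
        ext m
        exact beta₀_map f M a.unop m }
    (fun U c m => beta₀_smul f M (U := U.unop) c m)⟩

/-- The comparison from the sheafified presentation. -/
noncomputable def lamSh : (shf O_C).obj (pre f M) ⟶ f.pull.obj M :=
  ((shfAdj O_C).homEquiv _ _).symm (lamBar f M)

theorem lamSh_cls {V : C} (x : (gens f M).obj (op V)) :
    (lamSh f M).val.app (op V) (cls f M x) = FlatRel25.res (f.pull.obj M) x.2 (pullSec f M x.1.2) := by
  have h : cokernel.π (relMap f M) ≫ (shfAdj O_C).unit.app _ ≫ (forgetP O_C).map (lamSh f M) = lam f M := by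
    exact (congrArg (cokernel.π (relMap f M) ≫ ·) (((shfAdj O_C).homEquiv_unit _ _ (lamSh f M)).symm.trans
      (Equiv.apply_symm_apply _ (lamBar f M)))).trans (cokernel.π_desc _ _ _)
  exact (congrArg (fun k => k.app (op V) (gen' f M x)) h).trans (lam_gen' f M x)

/-- The inverse of the comparison. -/
noncomputable def betaSh : f.pull.obj M ⟶ (shf O_C).obj (pre f M) :=
  (f.adj.homEquiv _ _).symm (beta f M)

theorem betaSh_pullSec {U : D} (m : ModSite.sect M U) :
    (betaSh f M).val.app (op (f.fn.obj U)) (pullSec f M m) = beta₀ f M m :=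
  congrArg (fun k => k.val.app (op U) m)
    ((f.adj.homEquiv_unit _ _ _).symm.trans (Equiv.apply_symm_apply _ (beta f M)))

theorem isIso_lamSh : IsIso (lamSh f M) := by
  refine ⟨betaSh f M, ?_, ?_⟩
  · apply ((shfAdj O_C).homEquiv _ _).injective
    rw [← cancel_epi (cokernel.π (relMap f M))]
    rw [(shfAdj O_C).homEquiv_unit, (shfAdj O_C).homEquiv_unit]
    refine PresheafOfModules.hom_ext fun V => ModuleCat.free_hom_ext fun x => ?_
    obtain ⟨V⟩ := V
    change (betaSh f M).val.app (op V) ((lamSh f M).val.app (op V) (cls f M x)) = cls f M x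
    rw [lamSh_cls]
    refine (PresheafOfModules.naturality_apply (betaSh f M).val x.2.op _).trans ?_
    change FlatRel25.res ((shf O_C).obj (pre f M)) x.2 _ = _
    rw [betaSh_pullSec]
    refine (cls_res f M x.2 _).trans ?_
    exact congrArg (fun q => cls f M (V := V) ⟨x.1, q⟩)
      ((congrArg (x.2 ≫ ·) (f.fn.map_id x.1.1)).trans (Category.comp_id _))
  · apply (f.adj.homEquiv _ _).injective
    rw [f.adj.homEquiv_unit, f.adj.homEquiv_unit]
    refine SheafOfModules.hom_ext (PresheafOfModules.hom_ext fun U => ?_)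
    ext m
    obtain ⟨U⟩ := U
    change (lamSh f M).val.app (op (f.fn.obj U)) ((betaSh f M).val.app _ (pullSec f M m)) = pullSec f M m
    rw [betaSh_pullSec, beta₀, lamSh_cls]
    change (f.pull.obj M).val.map (f.fn.map (𝟙 U)).op (pullSec f M m) = pullSec f M m
    rw [f.fn.map_id, op_id, PresheafOfModules.map_id]
    rfl

theorem unit_lamSh : (shfAdj O_C).unit.app (pre f M) ≫ (forgetP O_C).map (lamSh f M) = lamBar f M := by
  exact ((shfAdj O_C).homEquiv_unit _ _ (lamSh f M)).symm.trans (Equiv.apply_symm_apply _ (lamBar f M))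

/-- Every section is locally a combination of pulled back ones. -/
theorem exists_lam {V : C} (s : ModSite.sect (f.pull.obj M) V) :
    ∃ S ∈ J V, ∀ ⦃V' : C⦄ (g : V' ⟶ V), S g →
      ∃ x, (lam f M).app (op V') x = FlatRel25.res (f.pull.obj M) g s := by
  have := isIso_lamSh f M
  let z : ModSite.sect ((shf O_C).obj (pre f M)) V := (inv (lamSh f M)).val.app (op V) s
  have := isLocallySurjective_unit O_C (pre f M)
  refine ⟨_, Presheaf.imageSieve_mem J ((PresheafOfModules.toPresheaf _).map ((shfAdj O_C).unit.app (pre f M))) z,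
    fun V' g hg => ?_⟩
  obtain ⟨y, hy⟩ := hg
  have : Epi ((PresheafOfModules.evaluation _ (op V')).map (cokernel.π (relMap f M))) := Functor.map_epi _ _
  obtain ⟨x, rfl⟩ := (ModuleCat.epi_iff_surjective _).1 this y
  refine ⟨x, ?_⟩
  have h1 : cokernel.π (relMap f M) ≫ (shfAdj O_C).unit.app _ ≫ (forgetP O_C).map (lamSh f M) = lam f M := by
    exact (congrArg (cokernel.π (relMap f M) ≫ ·) (unit_lamSh f M)).trans (cokernel.π_desc _ _ _)
  refine (congrArg (fun k => k.app (op V') x) h1).symm.trans ?_
  refine (congrArg ((lamSh f M).val.app (op V')) hy).trans ?_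
  refine (PresheafOfModules.naturality_apply (lamSh f M).val g.op z).trans ?_
  refine congrArg (FlatRel25.res (f.pull.obj M) g) ?_
  exact congrArg (fun k : f.pull.obj M ⟶ f.pull.obj M => k.val.app (op V) s) (IsIso.inv_hom_id (lamSh f M))

/-- Combinations vanishing in the inverse image are locally combinations of relations. -/
theorem exists_rel {V : C} (y : (freeGens f M).obj (op V)) (hy : (lam f M).app (op V) y = 0) :
    ∃ S ∈ J V, ∀ ⦃V' : C⦄ (g : V' ⟶ V), S g →
      ∃ d, (relMap f M).app (op V') d = (freeGens f M).map g.op y := by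
  have := isIso_lamSh f M
  let p := (cokernel.π (relMap f M)).app (op V) y
  have h1 : cokernel.π (relMap f M) ≫ lamBar f M = lam f M := cokernel.π_desc _ _ _
  have hp : ((shfAdj O_C).unit.app (pre f M)).app (op V) p = ((shfAdj O_C).unit.app (pre f M)).app (op V) 0 := by
    refine (congrArg (fun k : (shf O_C).obj (pre f M) ⟶ (shf O_C).obj (pre f M) => k.val.app (op V) _)
      (IsIso.hom_inv_id (lamSh f M))).symm.trans ?_
    refine (congrArg ((inv (lamSh f M)).val.app (op V)) ?_).trans ((map_zero _).trans (map_zero _).symm)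
    refine (congrArg (fun k => k.app (op V) p) (unit_lamSh f M)).trans ?_
    exact (congrArg (fun k => k.app (op V) y) h1).trans hy
  have := isLocallyInjective_unit O_C (pre f M)
  refine ⟨_, Presheaf.equalizerSieve_mem J ((PresheafOfModules.toPresheaf _).map ((shfAdj O_C).unit.app (pre f M))) p 0 hp,
    fun V' g hg => ?_⟩
  let S := ShortComplex.mk _ _ (cokernel.condition (relMap f M))
  have hS : S.Exact := ShortComplex.exact_of_g_is_cokernel _ (cokernelIsCokernel _)
  have := (ShortComplex.moduleCat_exact_iff _).1 (hS.map_of_epi_of_preservesCokernel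
    (PresheafOfModules.evaluation _ (op V')) (inferInstanceAs (Epi (cokernel.π (relMap f M)))) inferInstance)
    ((freeGens f M).map g.op y) ?_
  · exact this
  · refine (PresheafOfModules.naturality_apply (cokernel.π (relMap f M)) g.op y).trans ?_
    exact hg.trans (map_zero _)

end GrothLib.PullLoc25
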