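import Groth.Agent.Lib.PullLoc25.Merge
import Groth.Agent.Lib.PullLoc25.Model
import Groth.Agent.Lib.FlatRel25.Flat

/-!
# Inverse images of flat modules are flat
-/

set_option autoImplicit false
universe u

open CategoryTheory CategoryTheory.Limits Opposite GrothLib.SheafCoh

namespace GrothLib.PullLoc25

variable {C D : Type u} [SmallCategory C] [SmallCategory D] {J : GrothendieckTopology C}
  {K : GrothendieckTopology D} {O_C : Sheaf J CommRingCat.{u}} {O_D : Sheaf K CommRingCat.{u}}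
  (f : ModSite.RMor O_C O_D) {M : ModSite.Mod O_D}

/-- The evaluation of generators as a sum. -/
theorem lam_apply {V : C} (x : (freeGens f M).obj (op V)) :
    (lam f M).app (op V) x = (show (Σ i : Idx M, V ⟶ f.fn.obj i.1) →₀ O_C.obj.obj (op V) from x).sum
      fun e c => c • FlatRel25.res (f.pull.obj M) e.2 (pullSec f M e.1.2) := by
  change (ModuleCat.freeDesc _).hom x = _
  rfl

/-- Relations as a sum. -/
theorem relMap_apply {V : C} (d : (freeRels f M).obj (op V)) :
    (relMap f M).app (op V) d = (show (Σ R : Rel M, V ⟶ f.fn.obj R.W) →₀ O_C.obj.obj (op V) from d).sum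
      fun R c => c • relVec f M (V := V) R := by
  change (ModuleCat.freeDesc _).hom d = _
  rfl

/-- Finitely many sections are locally combinations. -/
theorem exists_lam_fin (M : ModSite.Mod O_D) : ∀ (n : ℕ) {V : C} (s : Fin n → ModSite.sect (f.pull.obj M) V),
    ∃ S ∈ J V, ∀ ⦃V' : C⦄ (g : V' ⟶ V), S g → ∃ x : Fin n → (freeGens f M).obj (op V'),
      ∀ j, (lam f M).app (op V') (x j) = FlatRel25.res (f.pull.obj M) g (s j) := by
  intro n
  induction n with
  | zero => exact fun {V} s => ⟨⊤, J.top_mem V, fun V' g _ => ⟨fun j => j.elim0, fun j => j.elim0⟩⟩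
  | succ n ih =>
    intro V s
    obtain ⟨S₁, hS₁, h₁⟩ := ih (fun j => s j.succ)
    obtain ⟨S₂, hS₂, h₂⟩ := exists_lam f M (s 0)
    refine ⟨S₁ ⊓ S₂, J.intersection_covering hS₁ hS₂, fun V' g hg => ?_⟩
    obtain ⟨x, hx⟩ := h₁ g hg.1
    obtain ⟨x₀, hx₀⟩ := h₂ g hg.2
    refine ⟨Fin.cases x₀ x, fun j => ?_⟩
    cases j using Fin.cases with
    | zero => simpa using hx₀
    | succ j => simpa using hx j

/-- The key step: a relation presented by explicit combinations is locally trivial. -/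
theorem exists_triv (hM : FlatRel25.LocRel M) {n : ℕ} {V : C} (φ : Fin n → O_C.obj.obj (op V))
    (s : Fin n → ModSite.sect (f.pull.obj M) V) (x : Fin n → (freeGens f M).obj (op V))
    (hx : ∀ j, (lam f M).app (op V) (x j) = s j) (d : (freeRels f M).obj (op V))
    (hd : (relMap f M).app (op V) d = ∑ j, φ j • x j) :
    FlatRel25.trivSieve (fun (_ : Unit) => φ) s ∈ J V := by
  classical
  let xs : Fin n → ((Σ i : Idx M, V ⟶ f.fn.obj i.1) →₀ O_C.obj.obj (op V)) := x
  let ds : (Σ R : Rel M, V ⟶ f.fn.obj R.W) →₀ O_C.obj.obj (op V) := d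
  let tgt : (Σ R : {R // R ∈ ds.support}, {a // a ∈ R.1.1.r.support}) → (Σ i : Idx M, V ⟶ f.fn.obj i.1) :=
    fun k => ⟨k.2.1.1, k.1.1.2 ≫ f.fn.map k.2.1.2⟩
  let A : Finset (Σ i : Idx M, V ⟶ f.fn.obj i.1) :=
    (Finset.univ.biUnion fun j => (xs j).support) ∪ Finset.univ.image tgt
  have htgt : ∀ k, tgt k ∈ A := fun k =>
    Finset.mem_union_right _ (Finset.mem_image.2 ⟨k, Finset.mem_univ k, rfl⟩)
  -- merge
  let ι := {e // e ∈ A} ⊕ {R // R ∈ ds.support}
  let U : ι → D := fun i => i.elim (fun e => e.1.1.1) (fun R => R.1.1.W)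
  let p : ∀ i, V ⟶ f.fn.obj (U i) := fun i => match i with
    | .inl e => e.1.2
    | .inr R => R.1.2
  obtain ⟨S₀, hS₀, h₀⟩ := exists_merge (J := J) K f.fn U p
    (κ' := Σ R : {R // R ∈ ds.support}, {a // a ∈ R.1.1.r.support})
    (fun k => .inr k.1) (fun k => .inl ⟨tgt k, htgt k⟩) (fun k => k.2.1.2) (fun k => rfl)
  refine J.transitive hS₀ _ fun V₁ g₁ hg₁ => ?_
  obtain ⟨W, q, l, hl, hc⟩ := h₀ g₁ hg₁
  let μ : {e // e ∈ A} → ModSite.sect M W := fun e => FlatRel25.res M (l (.inl e)) e.1.1.2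
  let ρ : {R // R ∈ ds.support} → {e // e ∈ A} → O_D.obj.obj (op W) := fun R e =>
    ∑ a : {a // a ∈ R.1.1.r.support}, if tgt ⟨R, a⟩ = e.1 then FlatRel25.resR (l (.inr R)) (R.1.1.r a.1) else 0
  have hρ : ∀ R ∈ (Finset.univ : Finset {R // R ∈ ds.support}), ∑ e, ρ R e • μ e = 0 := fun R _ => by
    simp only [ρ, Finset.sum_smul, ite_smul, zero_smul]
    rw [Finset.sum_comm]
    have h := congrArg (FlatRel25.res M (l (.inr R))) R.1.1.rel
    simp only [Finsupp.sum] at h
    refine Eq.trans (Finset.sum_congr rfl fun a _ => ?_) ((Finset.sum_coe_sort R.1.1.r.support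
      (fun a => FlatRel25.res M (l (.inr R)) (R.1.1.r a • FlatRel25.res M a.2 a.1.2))).trans
      ((map_sum (FlatRel25.res M (l (.inr R))) _ _).symm.trans (h.trans (map_zero _))))
    rw [Finset.sum_eq_single (⟨tgt ⟨R, a⟩, htgt _⟩ : {e // e ∈ A})
      (fun e _ he => if_neg fun h' => he (Subtype.ext h'.symm)) (fun h' => absurd (Finset.mem_univ _) h')]
    rw [if_pos rfl]
    refine Eq.trans ?_ (FlatRel25.res_smul M _ _ _).symm
    refine congrArg (fun z : ModSite.sect M W => FlatRel25.resR (l (.inr R)) (R.1.1.r a.1) • z) ?_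
    refine Eq.trans ?_ (FlatRel25.res_res M a.1.2 (l (.inr R)) a.1.1.2).symm
    exact congrArg (fun k => FlatRel25.res M k a.1.1.2) (hc ⟨R, a⟩).symm
  obtain ⟨S₁, hS₁, h₁⟩ := exists_cover (J := J) K f.fn q (hM.finset ρ μ Finset.univ hρ)
  refine J.superset_covering (fun V₂ g₂ hg₂ => ?_) hS₁
  obtain ⟨W', c, q', hcS, hq'⟩ := h₁ g₂ hg₂
  obtain ⟨m, t, a, ha₁, ha₂⟩ := hcS
  let g := g₂ ≫ g₁
  let co : (Σ i : Idx M, V ⟶ f.fn.obj i.1) → Fin m → O_C.obj.obj (op V₂) := fun e k =>
    if he : e ∈ A then coef f q' (a ⟨e, he⟩ k) else 0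
  refine ⟨m, fun k => FlatRel25.res (f.pull.obj M) q' (pullSec f M (t k)),
    fun j k => ∑ e ∈ A, FlatRel25.resR g (xs j e) * co e k, fun j => ?_, fun _ k => ?_⟩
  · rw [← hx j, lam_apply]
    refine (congrArg (FlatRel25.res (f.pull.obj M) g) (Finsupp.sum_of_support_subset (xs j)
      (s := A) (fun e he => Finset.mem_union_left _ ((Finset.mem_biUnion (t := fun j => (xs j).support)).2 ⟨j, Finset.mem_univ j, he⟩)) _
      (fun e _ => zero_smul _ _))).trans ?_
    rw [map_sum]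
    simp only [Finset.sum_smul]
    rw [Finset.sum_comm]
    refine Finset.sum_congr rfl fun e he => ?_
    rw [FlatRel25.res_smul, FlatRel25.res_res]
    simp only [mul_smul, ← Finset.smul_sum]
    refine congrArg (FlatRel25.resR g (xs j e) • ·) ?_
    let le : W ⟶ e.1.1 := l (.inl ⟨e, he⟩)
    have e1 : g ≫ e.2 = q' ≫ f.fn.map (c ≫ le) := by
      rw [Functor.map_comp, reassoc_of% hq']
      exact (Category.assoc _ _ _).trans (congrArg (g₂ ≫ ·) (hl (.inl ⟨e, he⟩)).symm)
    rw [e1, ← FlatRel25.res_res, ← pullSec_natural, ← FlatRel25.res_res]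
    refine (congrArg (fun z => FlatRel25.res (f.pull.obj M) q' (pullSec f M z)) (ha₁ ⟨e, he⟩)).trans ?_
    rw [pullSec_sum, map_sum]
    refine Finset.sum_congr rfl fun k _ => ?_
    rw [res_pullSec_smul]
    simp only [co, dif_pos he]
  · let ev : ((Σ i : Idx M, V ⟶ f.fn.obj i.1) →₀ O_C.obj.obj (op V)) →+ O_C.obj.obj (op V₂) :=
      AddMonoidHom.mk' (fun y => ∑ e ∈ A, FlatRel25.resR g (y e) * co e k) (fun y y' => by
        simp only [Finsupp.add_apply, FlatRel25.resR, map_add, add_mul, Finset.sum_add_distrib])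
    have hev : ∀ (r : O_C.obj.obj (op V)) y, ev (r • y) = FlatRel25.resR g r * ev y := fun r y => by
      change ∑ e ∈ A, _ = _ * ∑ e ∈ A, _
      rw [Finset.mul_sum]
      exact Finset.sum_congr rfl fun e _ => by simp [FlatRel25.resR, mul_assoc]
    have h2 : ev (∑ j, φ j • xs j) = ∑ j, (∑ e ∈ A, FlatRel25.resR g (xs j e) * co e k) * FlatRel25.resR g (φ j) := by
      rw [map_sum]
      exact Finset.sum_congr rfl fun j _ => (hev _ _).trans (mul_comm _ _)
    refine h2.symm.trans ?_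
    have hd' : ds.sum (fun R c => c • (show (Σ i : Idx M, V ⟶ f.fn.obj i.1) →₀ O_C.obj.obj (op V) from relVec f M (V := V) R)) =
        ∑ j, φ j • xs j := (relMap_apply f d).symm.trans hd
    rw [← hd', Finsupp.sum, map_sum, ← Finset.sum_coe_sort]
    refine Finset.sum_eq_zero fun R _ => ?_
    rw [hev]
    refine Eq.trans (congrArg (FlatRel25.resR g (ds R.1) * ·) ?_) (mul_zero _)
    have hR := congrArg (coef f q') (ha₂ ⟨R, Finset.mem_univ R⟩ k)
    rw [map_zero] at hR
    refine Eq.trans ?_ hR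
    rw [show relVec f M R.1 = R.1.1.r.sum fun b r' => coef f R.1.2 r' •
      (show (Σ i : Idx M, V ⟶ f.fn.obj i.1) →₀ O_C.obj.obj (op V) from Finsupp.single ⟨b.1, R.1.2 ≫ f.fn.map b.2⟩ 1) from rfl]
    rw [Finsupp.sum, map_sum, ← Finset.sum_coe_sort, map_sum]
    simp only [ρ, FlatRel25.resR, map_sum, Finset.mul_sum, map_mul]
    rw [Finset.sum_comm (γ := {e // e ∈ A})]
    refine Finset.sum_congr rfl fun b _ => ?_
    rw [Finset.sum_eq_single (⟨tgt ⟨R, b⟩, htgt _⟩ : {e // e ∈ A})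
      (fun e _ he => by rw [if_neg fun h' => he (Subtype.ext h'.symm)]; simp) (fun h' => absurd (Finset.mem_univ _) h'),
      if_pos rfl, hev]
    have hev1 : ev (Finsupp.single (tgt ⟨R, b⟩) 1) = co (tgt ⟨R, b⟩) k := by
      change ∑ e ∈ A, _ = _
      rw [Finset.sum_eq_single (tgt ⟨R, b⟩) (fun e _ he => by simp [he, FlatRel25.resR])
        (fun h' => absurd (htgt _) h')]
      simp [FlatRel25.resR]
    refine (congrArg (_ * ·) hev1).trans ?_
    rw [mul_comm]
    simp only [co, dif_pos (htgt ⟨R, b⟩)]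
    refine congrArg (_ * ·) ?_
    refine (coef_resR f R.1.2 g (R.1.1.r b.1)).trans ?_
    refine Eq.trans ?_ (coef_map f c q' _).symm
    refine Eq.trans ?_ (coef_map f (l (.inr R)) (q' ≫ f.fn.map c) _).symm
    refine congrArg (fun z => coef f z (R.1.1.r b.1)) ?_
    rw [hq']
    exact (Category.assoc g₂ g₁ _).trans ((congrArg (g₂ ≫ ·) (hl (.inr R))).symm.trans (Category.assoc _ _ _).symm)

theorem locRel_pull (hM : FlatRel25.LocRel M) : FlatRel25.LocRel (f.pull.obj M) := by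
  refine FlatRel25.locRel_of_fin _ fun V n φ s hs => ?_
  refine ⟨FlatRel25.trivSieve (fun (_ : Unit) => φ) s, ?_, fun V' g hg => ?_⟩
  · obtain ⟨S₁, hS₁, h₁⟩ := exists_lam_fin f M n s
    refine J.transitive hS₁ _ fun V₁ g₁ hg₁ => ?_
    obtain ⟨x, hx⟩ := h₁ g₁ hg₁
    let φ₁ := fun j => FlatRel25.resR g₁ (φ j)
    have h0 : (lam f M).app (op V₁) (∑ j, φ₁ j • x j) = 0 := by
      have := congrArg (FlatRel25.res (f.pull.obj M) g₁) hs
      rw [map_zero, map_sum] at this
      refine Eq.trans ?_ this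
      refine (map_sum ((lam f M).app (op V₁)).hom _ _).trans (Finset.sum_congr rfl fun j _ => ?_)
      refine (((lam f M).app (op V₁)).hom.map_smul _ _).trans ?_
      rw [FlatRel25.res_smul]
      exact congrArg (φ₁ j • ·) (hx j)
    obtain ⟨S₂, hS₂, h₂⟩ := exists_rel f M _ h0
    refine J.transitive hS₂ _ fun V₂ g₂ hg₂ => ?_
    obtain ⟨d, hd⟩ := h₂ g₂ hg₂
    refine J.superset_covering (fun V₃ g₃ hg₃ => ?_) (exists_triv f hM
      (fun j => FlatRel25.resR (g₂ ≫ g₁) (φ j)) (fun j => FlatRel25.res (f.pull.obj M) (g₂ ≫ g₁) (s j))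
      (fun j => (freeGens f M).map g₂.op (x j)) (fun j => ?_) d ?_)
    · obtain ⟨m, t, a, e₁, e₂⟩ := hg₃
      refine ⟨m, t, a, fun j => ?_, fun b k => ?_⟩
      · rw [← e₁, FlatRel25.res_res, Category.assoc]
      · refine Eq.trans (Finset.sum_congr rfl fun j _ => ?_) (e₂ b k)
        rw [FlatRel25.resR_resR, Category.assoc]
    · rw [← FlatRel25.res_res, ← hx]
      exact PresheafOfModules.naturality_apply (lam f M) g₂.op (x j)
    · refine hd.trans ((map_sum _ _ _).trans (Finset.sum_congr rfl fun j _ => ?_))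
      refine ((freeGens f M).map_smul g₂.op _ _).trans ?_
      exact congrArg (fun (r : O_C.obj.obj (op V₂)) => r • (show (freeGens f M).obj (op V₂) from (freeGens f M).map g₂.op (x j)))
        (FlatRel25.resR_resR g₁ g₂ (φ j))
  · obtain ⟨m, t, a, h₁, h₂⟩ := hg
    exact ⟨m, t, a, h₁, h₂ ()⟩

theorem isFlat_pull (hM : ModSite.IsFlat M) : ModSite.IsFlat (f.pull.obj M) :=
  FlatRel25.isFlat_of_locRel (locRel_pull f (FlatRel25.locRel_of_isFlat hM))

end GrothLib.PullLoc25
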