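import Groth.Agent.Lib.PullLoc25.Exact
import Mathlib.RingTheory.Flat.EquationalCriterion
import Mathlib.RingTheory.RingHom.Flat
import Mathlib.Topology.Sheaves.Stalks

/-!
# Flat morphisms of ringed spaces
-/

set_option autoImplicit false
universe u

open CategoryTheory CategoryTheory.Limits Opposite TopologicalSpace

namespace GrothLib.PullLoc25

section Lemmas

variable {X : TopCat.{u}} (O : TopCat.Presheaf CommRingCat.{u} X)

/-- Restriction of scalars on a space. -/
noncomputable abbrev tres {U U' : Opens X} (h : U' ≤ U) (a : O.obj (op U)) : O.obj (op U') :=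
  (O.map (homOfLE h).op).hom a

theorem tres_tres {U U' U'' : Opens X} (h : U' ≤ U) (h' : U'' ≤ U') (a : O.obj (op U)) :
    tres O h' (tres O h a) = tres O (h'.trans h) a :=
  (ConcreteCategory.congr_hom (O.map_comp (homOfLE h).op (homOfLE h').op) a).symm

theorem germ_tres {U U' : Opens X} (h : U' ≤ U) {x : X} (hx : x ∈ U') (a : O.obj (op U)) :
    O.germ U' x hx (tres O h a) = O.germ U x (h hx) a :=
  O.germ_res_apply (homOfLE h) x hx a

/-- Finitely many germs come from one neighbourhood. -/
theorem exists_germs {x : X} {U₀ : Opens X} (hx : x ∈ U₀) {ι : Type*} [Fintype ι] (t : ι → O.stalk x) :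
    ∃ (U : Opens X) (hU : U ≤ U₀) (m : x ∈ U), ∃ s : ι → O.obj (op U), ∀ i, O.germ U x m (s i) = t i := by
  classical
  choose W hW hxW s hs using fun i => O.exists_le_germ_eq (t i) hx
  let U : Opens X := U₀ ⊓ Finset.univ.inf W
  have hm : x ∈ U := ⟨hx, by
    have : ∀ S : Finset ι, x ∈ S.inf W := fun S => by
      induction S using Finset.induction_on with
      | empty => simp
      | insert i S hi ih => rw [Finset.inf_insert]; exact ⟨hxW i, ih⟩
    exact this _⟩
  exact ⟨U, inf_le_left, hm, fun i => tres O (inf_le_right.trans (Finset.inf_le (Finset.mem_univ i))) (s i),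
    fun i => (germ_tres O _ hm (s i)).trans (hs i)⟩

/-- Finitely many equal germs are equal on one neighbourhood. -/
theorem exists_germs_eq {x : X} {U₀ : Opens X} (hx : x ∈ U₀) {ι : Type*} [Fintype ι] (a b : ι → O.obj (op U₀))
    (h : ∀ i, O.germ U₀ x hx (a i) = O.germ U₀ x hx (b i)) :
    ∃ (U : Opens X) (hU : U ≤ U₀), x ∈ U ∧ ∀ i, tres O hU (a i) = tres O hU (b i) := by
  classical
  choose W hxW iU iV hW using fun i => O.germ_eq x hx hx (a i) (b i) (h i)
  let U : Opens X := U₀ ⊓ Finset.univ.inf W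
  have hm : x ∈ U := ⟨hx, by
    have : ∀ S : Finset ι, x ∈ S.inf W := fun S => by
      induction S using Finset.induction_on with
      | empty => simp
      | insert i S hi ih => rw [Finset.inf_insert]; exact ⟨hxW i, ih⟩
    exact this _⟩
  refine ⟨U, inf_le_left, hm, fun i => ?_⟩
  have hle : U ≤ W i := inf_le_right.trans (Finset.inf_le (Finset.mem_univ i))
  rw [← tres_tres O (iU i).le hle, ← tres_tres O (iV i).le hle]
  exact congrArg (tres O hle) (hW i)

end Lemmas

variable {X Y : TopCat.{u}} (f : X ⟶ Y) (O_X : TopCat.Sheaf CommRingCat.{u} X)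
  (O_Y : TopCat.Sheaf CommRingCat.{u} Y)
  (c : O_Y ⟶ ((TopologicalSpace.Opens.map f).sheafPushforwardContinuous CommRingCat.{u}
    (Opens.grothendieckTopology Y) (Opens.grothendieckTopology X)).obj O_X)

/-- Flatness on stalks makes scalar relations locally trivial. -/
theorem locFlat_of_stalks
    (hflat : ∀ x : X, ((TopCat.Presheaf.stalkFunctor CommRingCat.{u} (f x)).map
        (show O_Y.presheaf ⟶ (TopCat.Presheaf.pushforward CommRingCat.{u} f).obj O_X.presheaf from c.hom) ≫
      TopCat.Presheaf.stalkPushforward CommRingCat.{u} f O_X.presheaf x).hom.Flat) :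
    LocFlat (ModSite.RMor.ofFlat (TopologicalSpace.Opens.map f) c) := by
  intro V W q α β _ _ d r hr
  classical
  let F := ModSite.RMor.ofFlat (TopologicalSpace.Opens.map f) c
  let R : Sieve V :=
    { arrows := fun V' g => ∃ (W' : Opens Y) (i : W' ⟶ W) (q' : V' ⟶ (Opens.map f).obj W'),
        q' ≫ (Opens.map f).map i = g ≫ q ∧ ∃ (l : ℕ) (u : Fin l → O_X.obj.obj (op V')) (a : α → Fin l → O_Y.obj.obj (op W')),
          (∀ e, FlatRel25.resR g (d e) = ∑ j, coef F q' (a e j) * u j) ∧
          ∀ b j, ∑ e, a e j * FlatRel25.resR i (r b e) = 0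
      downward_closed := fun {V₁ V₂ g} ⟨W', i, q', hq, l, u, a, h₁, h₂⟩ k =>
        ⟨W', i, k ≫ q', Subsingleton.elim _ _, l, fun j => FlatRel25.resR k (u j), a, fun e => by
          rw [← FlatRel25.resR_resR, h₁ e]
          simp only [FlatRel25.resR, map_sum, map_mul]
          exact Finset.sum_congr rfl fun j _ => congrArg (· * _) (coef_resR F q' k (a e j)), h₂⟩ }
  refine ⟨R, ?_, fun V' g hg => hg⟩
  intro x hx
  let φ := ((TopCat.Presheaf.stalkFunctor CommRingCat.{u} (f x)).map
      (show O_Y.presheaf ⟶ (TopCat.Presheaf.pushforward CommRingCat.{u} f).obj O_X.presheaf from c.hom) ≫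
    TopCat.Presheaf.stalkPushforward CommRingCat.{u} f O_X.presheaf x).hom
  have hφ : ∀ (U : Opens Y) (hU : f x ∈ U) (a : O_Y.obj.obj (op U)),
      φ (O_Y.presheaf.germ U (f x) hU a) = O_X.presheaf.germ ((Opens.map f).obj U) x hU ((c.hom.app (op U)).hom a) := by
    intro U hU a
    refine (congrArg (TopCat.Presheaf.stalkPushforward CommRingCat.{u} f O_X.presheaf x)
      (TopCat.Presheaf.stalkFunctor_map_germ_apply U (f x) hU
        (show O_Y.presheaf ⟶ (TopCat.Presheaf.pushforward CommRingCat.{u} f).obj O_X.presheaf from c.hom) a)).trans ?_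
    exact TopCat.Presheaf.stalkPushforward_germ_apply CommRingCat.{u} f O_X.presheaf U x hU _
  have hcoef : ∀ {V' : Opens X} {U : Opens Y} (p : V' ⟶ (Opens.map f).obj U) (hV' : x ∈ V') (a : O_Y.obj.obj (op U)),
      O_X.presheaf.germ V' x hV' (coef F p a) = φ (O_Y.presheaf.germ U (f x) (p.le hV') a) := by
    intro V' U p hV' a
    rw [hφ]
    exact O_X.presheaf.germ_res_apply p x hV' _
  have hfx : f x ∈ W := q.le hx
  let A := O_Y.presheaf.stalk (f x)
  let B := O_X.presheaf.stalk x
  letI : Algebra A B := RingHom.toAlgebra (show A →+* B from φ)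
  have : Module.Flat A B := hflat x
  let db : α → B := fun e => O_X.presheaf.germ V x hx (d e)
  let rb : β → α → A := fun b e => O_Y.presheaf.germ W (f x) hfx (r b e)
  let xl : (α → A) →ₗ[A] B := Fintype.linearCombination A db
  let fl : (β → A) →ₗ[A] (α → A) := Fintype.linearCombination A rb
  have hxf : xl ∘ₗ fl = 0 := by
    refine LinearMap.pi_ext' fun b => LinearMap.ext_ring ?_
    change xl (fl (Pi.single b 1)) = 0
    rw [Fintype.linearCombination_apply_single, one_smul, Fintype.linearCombination_apply]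
    have h := congrArg (O_X.presheaf.germ V x hx).hom (hr b)
    rw [map_zero, map_sum] at h
    refine Eq.trans (Finset.sum_congr rfl fun e _ => ?_) h
    rw [map_mul, mul_comm]
    exact congrArg (· * db e) (hcoef q hx (r b e)).symm
  obtain ⟨k, a, y, hxy, haf⟩ := Module.Flat.exists_factorization_of_comp_eq_zero_of_free hxf
  let ab : α → Fin k → A := fun e j => a (Pi.single e 1) j
  let ub : Fin k → B := fun j => y (Finsupp.single j 1)
  have h₁ : ∀ e, db e = ∑ j, φ (ab e j) * ub j := by
    intro e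
    have h := LinearMap.congr_fun hxy (Pi.single e 1)
    rw [Fintype.linearCombination_apply_single, one_smul, LinearMap.comp_apply,
      ← Finsupp.univ_sum_single (a (Pi.single e 1)), map_sum] at h
    refine h.trans (Finset.sum_congr rfl fun j _ => ?_)
    rw [← Finsupp.smul_single_one j, map_smul]
    rfl
  have h₂ : ∀ b j, ∑ e, ab e j * rb b e = 0 := by
    intro b j
    have h := congrArg (fun z : Fin k →₀ A => z j) (LinearMap.congr_fun haf (Pi.single b 1))
    simp only [LinearMap.comp_apply, LinearMap.zero_apply, Finsupp.zero_apply, fl,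
      Fintype.linearCombination_apply_single, one_smul] at h
    rw [show rb b = ∑ e, rb b e • Pi.single (M := fun _ => A) e 1 from
      (pi_eq_sum_univ' (rb b)), map_sum, Finsupp.finset_sum_apply] at h
    refine Eq.trans (Finset.sum_congr rfl fun e _ => ?_) h
    rw [map_smul, Finsupp.smul_apply, smul_eq_mul, mul_comm]
  obtain ⟨W₁, hW₁, hxW₁, al, hal⟩ := exists_germs O_Y.presheaf hfx (fun p : α × Fin k => ab p.1 p.2)
  obtain ⟨W₂, hW₂, hxW₂, hrel⟩ := exists_germs_eq O_Y.presheaf hxW₁
    (fun p : β × Fin k => ∑ e, al (e, p.2) * tres O_Y.presheaf hW₁ (r p.1 e)) (fun _ => 0) (fun p => by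
      rw [map_zero, map_sum]
      refine Eq.trans (Finset.sum_congr rfl fun e _ => ?_) (h₂ p.1 p.2)
      rw [map_mul, hal, germ_tres])
  obtain ⟨V₁, hV₁, hxV₁, ul, hul⟩ := exists_germs O_X.presheaf (show x ∈ V ⊓ (Opens.map f).obj W₂ from ⟨hx, hxW₂⟩) ub
  have hW' : W₂ ≤ W := hW₂.trans hW₁
  let q₁ : V₁ ⟶ (Opens.map f).obj W₂ := homOfLE (hV₁.trans inf_le_right)
  obtain ⟨V₂, hV₂, hxV₂, heq⟩ := exists_germs_eq O_X.presheaf hxV₁
    (fun e => tres O_X.presheaf (hV₁.trans inf_le_left) (d e))
    (fun e => ∑ j, coef F q₁ (tres O_Y.presheaf hW₂ (al (e, j))) * ul j) (fun e => by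
      rw [germ_tres, map_sum]
      refine (h₁ e).trans (Finset.sum_congr rfl fun j _ => ?_)
      rw [map_mul, hul, hcoef, germ_tres, hal])
  refine ⟨V₂, homOfLE (hV₂.trans (hV₁.trans inf_le_left)), ?_, hxV₂⟩
  refine ⟨W₂, homOfLE hW', homOfLE hV₂ ≫ q₁, Subsingleton.elim _ _, k, fun j => tres O_X.presheaf hV₂ (ul j),
    fun e j => tres O_Y.presheaf hW₂ (al (e, j)), fun e => ?_, fun b j => ?_⟩
  · refine (tres_tres O_X.presheaf (hV₁.trans inf_le_left) hV₂ (d e)).symm.trans ((heq e).trans ?_)
    simp only [tres, map_sum, map_mul]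
    exact Finset.sum_congr rfl fun j _ => congrArg (· * _) (coef_resR F q₁ (homOfLE hV₂) _)
  · have h := hrel (b, j)
    simp only [tres, map_sum, map_mul, map_zero] at h
    refine Eq.trans (Finset.sum_congr rfl fun e _ => ?_) h
    exact congrArg (_ * ·) (tres_tres O_Y.presheaf hW₁ hW₂ (r b e)).symm

end GrothLib.PullLoc25
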