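import Groth.Agent.Lib.PullLoc25.Local
import Mathlib.Data.Fintype.Card

/-! # Merging finitely many maps to images -/

set_option autoImplicit false
universe u v w

open CategoryTheory CategoryTheory.Limits Opposite

namespace GrothLib.PullLoc25

variable {C D : Type u} [SmallCategory C] [SmallCategory D] {J : GrothendieckTopology C}
  (K : GrothendieckTopology D) (F : D ⥤ C) [F.IsContinuous K J]
  [PreservesFiniteLimits (F.sheafPullback (Type u) K J)]


/-- The sieve on which the maps `p i` factor through one image. -/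
def liftSieve {V : C} {ι : Type v} (U : ι → D) (p : ∀ i, V ⟶ F.obj (U i)) : Sieve V where
  arrows V' g := ∃ (W : D) (q : V' ⟶ F.obj W) (l : ∀ i, W ⟶ U i), ∀ i, q ≫ F.map (l i) = g ≫ p i
  downward_closed := fun {Y Z g} ⟨W, q, l, h⟩ k =>
    ⟨W, k ≫ q, l, fun i => by rw [Category.assoc, h, Category.assoc]⟩

include K

theorem liftSieve_fin_mem : ∀ (n : ℕ) {V : C} (U : Fin n → D) (p : ∀ i, V ⟶ F.obj (U i)),
    liftSieve F U p ∈ J V := by
  intro n
  induction n with
  | zero =>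
    intro V U p
    obtain ⟨S, hS, h⟩ := exists_over (J := J) K F V
    refine J.superset_covering (fun V' g hg => ?_) hS
    obtain ⟨W, ⟨q⟩⟩ := h g hg
    exact ⟨W, q, fun i => i.elim0, fun i => i.elim0⟩
  | succ n ih =>
    intro V U p
    refine J.transitive (ih (fun i => U i.succ) (fun i => p i.succ)) _ fun V' g hg => ?_
    obtain ⟨W, q, l, hl⟩ := hg
    obtain ⟨S, hS, h⟩ := exists_pair (J := J) K F q (g ≫ p 0)
    refine J.superset_covering (fun V'' e he => ?_) hS
    obtain ⟨W', a₁, a₂, q', h₁, h₂⟩ := h e he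
    refine ⟨W', q', fun i => Fin.cases (motive := fun i => W' ⟶ U i) a₂ (fun i => a₁ ≫ l i) i, fun i => ?_⟩
    cases i using Fin.cases with
    | zero => simpa using h₂
    | succ i => simp only [Fin.cases_succ, Functor.map_comp]; rw [reassoc_of% h₁, hl, Category.assoc]

/-- Equalise finitely many pairs. -/
theorem equalize_fin_mem : ∀ (m : ℕ) {V : C} {W : D} (q : V ⟶ F.obj W) (T : Fin m → D)
    (a b : ∀ k, W ⟶ T k) (_ : ∀ k, q ≫ F.map (a k) = q ≫ F.map (b k)),
    ∃ S ∈ J V, ∀ ⦃V' : C⦄ (g : V' ⟶ V), S g → ∃ (W' : D) (c : W' ⟶ W) (q' : V' ⟶ F.obj W'),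
      (∀ k, c ≫ a k = c ≫ b k) ∧ q' ≫ F.map c = g ≫ q := by
  intro m
  induction m with
  | zero =>
    intro V W q T a b h
    exact ⟨⊤, J.top_mem V, fun V' g _ => ⟨W, 𝟙 W, g ≫ q, fun k => k.elim0, by simp⟩⟩
  | succ m ih =>
    intro V W q T a b h
    obtain ⟨S, hS, hS'⟩ := ih q (fun k => T k.succ) (fun k => a k.succ) (fun k => b k.succ) (fun k => h k.succ)
    let R : Sieve V :=
      { arrows := fun V' g => ∃ (W' : D) (c : W' ⟶ W) (q' : V' ⟶ F.obj W'),
          (∀ k, c ≫ a k = c ≫ b k) ∧ q' ≫ F.map c = g ≫ q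
        downward_closed := fun {Y Z g} ⟨W', c, q', h₁, h₂⟩ k =>
          ⟨W', c, k ≫ q', h₁, by rw [Category.assoc, h₂, Category.assoc]⟩ }
    refine ⟨R, J.transitive hS R fun V' g hg => ?_, fun V' g hg => hg⟩
    obtain ⟨W', c, q', hc, hq⟩ := hS' g hg
    obtain ⟨S₁, hS₁, h₁⟩ := exists_equalize (J := J) K F (c ≫ a 0) (c ≫ b 0) q' (by
      simp only [Functor.map_comp, ← Category.assoc, hq]
      simp only [Category.assoc]
      rw [h 0])
    refine J.superset_covering (fun V'' e he => ?_) hS₁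
    obtain ⟨W'', c', q'', hc', hq'⟩ := h₁ e he
    refine ⟨W'', c' ≫ c, q'', fun k => ?_, by rw [F.map_comp, reassoc_of% hq', hq, Category.assoc]⟩
    cases k using Fin.cases with
    | zero => simpa only [Category.assoc] using hc'
    | succ k => simp only [Category.assoc, hc k]

/-- Finitely many maps to images, with finitely many compatible arrows between the objects, come locally from one. -/
theorem exists_merge {V : C} {ι : Type v} [Finite ι] (U : ι → D) (p : ∀ i, V ⟶ F.obj (U i))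
    {κ' : Type w} [Finite κ'] (s t : κ' → ι) (α : ∀ k, U (s k) ⟶ U (t k))
    (hα : ∀ k, p (s k) ≫ F.map (α k) = p (t k)) :
    ∃ S ∈ J V, ∀ ⦃V' : C⦄ (g : V' ⟶ V), S g → ∃ (W : D) (q : V' ⟶ F.obj W) (l : ∀ i, W ⟶ U i),
      (∀ i, q ≫ F.map (l i) = g ≫ p i) ∧ ∀ k, l (s k) ≫ α k = l (t k) := by
  obtain ⟨n, ⟨e⟩⟩ := Finite.exists_equiv_fin ι
  obtain ⟨m, ⟨ε⟩⟩ := Finite.exists_equiv_fin κ'
  let R : Sieve V :=
    { arrows := fun V' g => ∃ (W : D) (q : V' ⟶ F.obj W) (l : ∀ i, W ⟶ U i),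
        (∀ i, q ≫ F.map (l i) = g ≫ p i) ∧ ∀ k, l (s k) ≫ α k = l (t k)
      downward_closed := fun {Y Z g} ⟨W, q, l, h, h'⟩ k =>
        ⟨W, k ≫ q, l, fun i => by rw [Category.assoc, h, Category.assoc], h'⟩ }
  refine ⟨R, J.transitive (liftSieve_fin_mem (J := J) K F n (fun j => U (e.symm j)) (fun j => p (e.symm j))) R
    fun V' g hg => ?_, fun V' g hg => hg⟩
  obtain ⟨W, q, l, hl⟩ := hg
  let l' : ∀ i, W ⟶ U i := fun i => l (e i) ≫ eqToHom (congrArg U (e.symm_apply_apply i))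
  have hl' : ∀ i, q ≫ F.map (l' i) = g ≫ p i := by
    intro i
    have : ∀ {i'} (h : i' = i), p i' ≫ F.map (eqToHom (congrArg U h)) = p i := by
      rintro _ rfl; simp
    simp only [l', Functor.map_comp]
    rw [reassoc_of% hl, this (e.symm_apply_apply i)]
  obtain ⟨S, hS, hS'⟩ := equalize_fin_mem (J := J) K F m q (fun j => U (t (ε.symm j)))
    (fun j => l' (s (ε.symm j)) ≫ α (ε.symm j)) (fun j => l' (t (ε.symm j))) (fun j => by
      rw [F.map_comp, reassoc_of% hl', hα, hl'])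
  refine J.superset_covering (fun V'' e' he => ?_) hS
  obtain ⟨W', c, q', hc, hq⟩ := hS' e' he
  refine ⟨W', q', fun i => c ≫ l' i, fun i => by rw [F.map_comp, reassoc_of% hq, hl', Category.assoc], fun k => ?_⟩
  obtain ⟨j, rfl⟩ := ε.symm.surjective k
  simpa only [Category.assoc] using hc j

end GrothLib.PullLoc25
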