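import Groth.Prelude.Def_ModSite2
import Groth.Agent.Lib.PullLoc25.Merge
import Mathlib.Algebra.Ring.MinimalAxioms

/-!
# The inverse image of a sheaf of rings, locally

Sections of `f⁻¹O_D` are locally pulled back sections, and two pulled back sections agree only if they agree
locally before pulling back. Proved by putting the ring structure on the inverse image of the underlying sheaf of sets.
-/

set_option autoImplicit false
universe u

open CategoryTheory CategoryTheory.Limits Opposite

namespace GrothLib.PullLoc25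

section General

variable {C D : Type u} [SmallCategory C] [SmallCategory D] {J : GrothendieckTopology C}
  {K : GrothendieckTopology D} (F : D ⥤ C) [F.IsContinuous K J]
  [PreservesFiniteLimits (F.sheafPullback (Type u) K J)]

/-- The sections of the inverse image of a presheaf of sets. -/
abbrev ISec (P : Dᵒᵖ ⥤ Type u) (V : C) : Type u := ((Φ (J := J) (K := K) F).obj P).obj.obj (op V)

variable {P Q : Dᵒᵖ ⥤ Type u}

/-- A pulled back section, restricted. -/
noncomputable def el {V : C} {W : D} (q : V ⟶ F.obj W) (a : P.obj (op W)) : ISec (J := J) (K := K) F P V :=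
  ((Φ (J := J) (K := K) F).obj P).obj.map q.op (elt F a)

/-- Restriction of sections of the inverse image. -/
noncomputable def iRes {V V' : C} (g : V' ⟶ V) (z : ISec (J := J) (K := K) F P V) :
    ISec (J := J) (K := K) F P V' :=
  ((Φ (J := J) (K := K) F).obj P).obj.map g.op z

omit [PreservesFiniteLimits (F.sheafPullback (Type u) K J)] in
theorem iRes_el {V V' : C} (g : V' ⟶ V) {W : D} (q : V ⟶ F.obj W) (a : P.obj (op W)) :
    iRes F g (el (J := J) (K := K) F q a) = el F (g ≫ q) a :=
  (ConcreteCategory.congr_hom (((Φ (J := J) (K := K) F).obj P).obj.map_comp q.op g.op) (elt F a)).symm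

omit [PreservesFiniteLimits (F.sheafPullback (Type u) K J)] in
theorem iRes_iRes {V V' V'' : C} (g : V' ⟶ V) (h : V'' ⟶ V') (z : ISec (J := J) (K := K) F P V) :
    iRes F h (iRes F g z) = iRes F (h ≫ g) z :=
  (ConcreteCategory.congr_hom (((Φ (J := J) (K := K) F).obj P).obj.map_comp g.op h.op) z).symm

omit [PreservesFiniteLimits (F.sheafPullback (Type u) K J)] in
theorem el_comp {V : C} {W W' : D} (c : W' ⟶ W) (q : V ⟶ F.obj W') (a : P.obj (op W)) :
    el (J := J) (K := K) F q (P.map c.op a) = el F (q ≫ F.map c) a := by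
  rw [el, ← map_elt F c a]
  exact iRes_el F q (F.map c) a

omit [PreservesFiniteLimits (F.sheafPullback (Type u) K J)] in
theorem ext_locally {V : C} {S : Sieve V} (hS : S ∈ J V) {z z' : ISec (J := J) (K := K) F P V}
    (h : ∀ ⦃V' : C⦄ (g : V' ⟶ V), S g → iRes F g z = iRes F g z') : z = z' :=
  (((isSheaf_iff_isSheaf_of_type _ _).1 ((Φ (J := J) (K := K) F).obj P).property).isSeparated S hS).ext
    fun V' g hg => h g hg

omit [PreservesFiniteLimits (F.sheafPullback (Type u) K J)] in
theorem exists_el {V : C} (z : ISec (J := J) (K := K) F P V) :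
    ∃ S ∈ J V, ∀ ⦃V' : C⦄ (g : V' ⟶ V), S g → ∃ (W : D) (a : P.obj (op W)) (q : V' ⟶ F.obj W),
      iRes F g z = el F q a := by
  obtain ⟨S, hS, h⟩ := gen F z
  exact ⟨S, hS, fun V' g hg => h g hg⟩

variable (K) in
/-- Two sections are locally pulled back from a common object. -/
theorem exists_el₂ {V : C} (z : ISec (J := J) (K := K) F P V) (z' : ISec (J := J) (K := K) F Q V) :
    ∃ S ∈ J V, ∀ ⦃V' : C⦄ (g : V' ⟶ V), S g → ∃ (W : D) (a : P.obj (op W)) (b : Q.obj (op W)) (q : V' ⟶ F.obj W),
      iRes F g z = el F q a ∧ iRes F g z' = el F q b := by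
  obtain ⟨S₁, hS₁, h₁⟩ := exists_el F z
  obtain ⟨S₂, hS₂, h₂⟩ := exists_el F z'
  let R : Sieve V :=
    { arrows := fun V' g => ∃ (W : D) (a : P.obj (op W)) (b : Q.obj (op W)) (q : V' ⟶ F.obj W),
        iRes F g z = el F q a ∧ iRes F g z' = el F q b
      downward_closed := fun {Y Z g} ⟨W, a, b, q, e, e'⟩ k => ⟨W, a, b, k ≫ q,
        by rw [← iRes_iRes, e, iRes_el], by rw [← iRes_iRes, e', iRes_el]⟩ }
  refine ⟨R, J.transitive (J.intersection_covering hS₁ hS₂) R fun V₁ g₁ hg₁ => ?_, fun V' g hg => hg⟩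
  obtain ⟨W₁, a, q₁, ha⟩ := h₁ g₁ hg₁.1
  obtain ⟨W₂, b, q₂, hb⟩ := h₂ g₁ hg₁.2
  obtain ⟨S₃, hS₃, h₃⟩ := exists_pair (J := J) K F q₁ q₂
  refine J.superset_covering (fun V₂ g₂ hg₂ => ?_) hS₃
  obtain ⟨W, c₁, c₂, q, e₁, e₂⟩ := h₃ g₂ hg₂
  refine ⟨W, P.map c₁.op a, Q.map c₂.op b, q, ?_, ?_⟩
  · rw [← iRes_iRes, ha, iRes_el, el_comp, e₁]
  · rw [← iRes_iRes, hb, iRes_el, el_comp, e₂]

variable (K) in
/-- Three sections are locally pulled back from a common object. -/
theorem exists_el₃ {V : C} (z z' z'' : ISec (J := J) (K := K) F P V) :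
    ∃ S ∈ J V, ∀ ⦃V' : C⦄ (g : V' ⟶ V), S g → ∃ (W : D) (a b c : P.obj (op W)) (q : V' ⟶ F.obj W),
      iRes F g z = el F q a ∧ iRes F g z' = el F q b ∧ iRes F g z'' = el F q c := by
  obtain ⟨S₁, hS₁, h₁⟩ := exists_el₂ K F z z'
  obtain ⟨S₂, hS₂, h₂⟩ := exists_el F z''
  let R : Sieve V :=
    { arrows := fun V' g => ∃ (W : D) (a b c : P.obj (op W)) (q : V' ⟶ F.obj W),
        iRes F g z = el F q a ∧ iRes F g z' = el F q b ∧ iRes F g z'' = el F q c
      downward_closed := fun {Y Z g} ⟨W, a, b, c, q, e, e', e''⟩ k => ⟨W, a, b, c, k ≫ q,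
        by rw [← iRes_iRes, e, iRes_el], by rw [← iRes_iRes, e', iRes_el], by rw [← iRes_iRes, e'', iRes_el]⟩ }
  refine ⟨R, J.transitive (J.intersection_covering hS₁ hS₂) R fun V₁ g₁ hg₁ => ?_, fun V' g hg => hg⟩
  obtain ⟨W₁, a, b, q₁, ha, hb⟩ := h₁ g₁ hg₁.1
  obtain ⟨W₂, c, q₂, hc⟩ := h₂ g₁ hg₁.2
  obtain ⟨S₃, hS₃, h₃⟩ := exists_pair (J := J) K F q₁ q₂
  refine J.superset_covering (fun V₂ g₂ hg₂ => ?_) hS₃
  obtain ⟨W, c₁, c₂, q, e₁, e₂⟩ := h₃ g₂ hg₂
  refine ⟨W, P.map c₁.op a, P.map c₁.op b, P.map c₂.op c, q, ?_, ?_, ?_⟩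
  · rw [← iRes_iRes, ha, iRes_el, el_comp, e₁]
  · rw [← iRes_iRes, hb, iRes_el, el_comp, e₁]
  · rw [← iRes_iRes, hc, iRes_el, el_comp, e₂]

variable (J K) in
omit [PreservesFiniteLimits (F.sheafPullback (Type u) K J)] in
theorem el_natural (α : P ⟶ Q) {V : C} {W : D} (q : V ⟶ F.obj W) (a : P.obj (op W)) :
    ((Φ (J := J) (K := K) F).map α).hom.app (op V) (el F q a) = el F q (α.app (op W) a) :=
  (ConcreteCategory.congr_hom (((Φ (J := J) (K := K) F).map α).hom.naturality q.op) (elt F a)).trans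
    (congrArg (((Φ (J := J) (K := K) F).obj Q).obj.map q.op) (elt_natural F α a))

/-- An element of a product of presheaves. -/
noncomputable def pairElt {W : D} (a : P.obj (op W)) (b : Q.obj (op W)) : (P ⨯ Q).obj (op W) :=
  yonedaEquiv (prod.lift (yonedaEquiv.symm a) (yonedaEquiv.symm b))

theorem fst_pairElt {W : D} (a : P.obj (op W)) (b : Q.obj (op W)) :
    (Limits.prod.fst : P ⨯ Q ⟶ P).app (op W) (pairElt a b) = a := by
  rw [pairElt, ← yonedaEquiv_comp, prod.lift_fst, Equiv.apply_symm_apply]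

theorem snd_pairElt {W : D} (a : P.obj (op W)) (b : Q.obj (op W)) :
    (Limits.prod.snd : P ⨯ Q ⟶ Q).app (op W) (pairElt a b) = b := by
  rw [pairElt, ← yonedaEquiv_comp, prod.lift_snd, Equiv.apply_symm_apply]

theorem exists_pairSec {V : C} (z : ISec (J := J) (K := K) F P V) (z' : ISec (J := J) (K := K) F Q V) :
    ∃ w : ISec (J := J) (K := K) F (P ⨯ Q) V, ((Φ (J := J) (K := K) F).map Limits.prod.fst).hom.app (op V) w = z ∧
      ((Φ (J := J) (K := K) F).map Limits.prod.snd).hom.app (op V) w = z' := by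
  have := preservesFiniteLimits_evΦ (J := J) K F V
  have hc := mapIsLimitOfPreservesOfIsLimit (evΦ (J := J) (K := K) F V) _ _ (prodIsProd P Q)
  obtain ⟨l, hl₁, hl₂⟩ := BinaryFan.IsLimit.lift' hc (↾fun _ : PUnit.{u+1} => z) (↾fun _ : PUnit.{u+1} => z')
  exact ⟨l PUnit.unit, ConcreteCategory.congr_hom hl₁ PUnit.unit, ConcreteCategory.congr_hom hl₂ PUnit.unit⟩

theorem pairSec_unique {V : C} {w w' : ISec (J := J) (K := K) F (P ⨯ Q) V}
    (h₁ : ((Φ (J := J) (K := K) F).map Limits.prod.fst).hom.app (op V) w =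
      ((Φ (J := J) (K := K) F).map Limits.prod.fst).hom.app (op V) w')
    (h₂ : ((Φ (J := J) (K := K) F).map Limits.prod.snd).hom.app (op V) w =
      ((Φ (J := J) (K := K) F).map Limits.prod.snd).hom.app (op V) w') : w = w' := by
  have := preservesFiniteLimits_evΦ (J := J) K F V
  have hc := mapIsLimitOfPreservesOfIsLimit (evΦ (J := J) (K := K) F V) _ _ (prodIsProd P Q)
  refine ConcreteCategory.congr_hom (BinaryFan.IsLimit.hom_ext hc (f := ↾fun _ : PUnit.{u+1} => w)
    (g := ↾fun _ : PUnit.{u+1} => w') ?_ ?_) PUnit.unit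
  · ext x
    exact h₁
  · ext x
    exact h₂

variable {R : Dᵒᵖ ⥤ Type u}

/-- A binary operation on the inverse image. -/
noncomputable def op2 (μ : P ⨯ Q ⟶ R) {V : C} (z : ISec (J := J) (K := K) F P V) (z' : ISec (J := J) (K := K) F Q V) :
    ISec (J := J) (K := K) F R V :=
  ((Φ (J := J) (K := K) F).map μ).hom.app (op V) (exists_pairSec F z z').choose

theorem op2_el (μ : P ⨯ Q ⟶ R) {V : C} {W : D} (q : V ⟶ F.obj W) (a : P.obj (op W)) (b : Q.obj (op W)) :
    op2 (J := J) (K := K) F μ (el F q a) (el F q b) = el F q (μ.app (op W) (pairElt a b)) := by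
  obtain ⟨h₁, h₂⟩ := (exists_pairSec (J := J) (K := K) F (el F q a) (el F q b)).choose_spec
  rw [op2, pairSec_unique F (w' := el (J := J) (K := K) F q (pairElt a b))
    (h₁.trans (by rw [el_natural, fst_pairElt])) (h₂.trans (by rw [el_natural, snd_pairElt])), el_natural]

theorem iRes_op2 (μ : P ⨯ Q ⟶ R) {V V' : C} (g : V' ⟶ V) (z : ISec (J := J) (K := K) F P V)
    (z' : ISec (J := J) (K := K) F Q V) :
    iRes F g (op2 F μ z z') = op2 F μ (iRes F g z) (iRes F g z') := by
  obtain ⟨h₁, h₂⟩ := (exists_pairSec (J := J) (K := K) F z z').choose_spec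
  obtain ⟨h₁', h₂'⟩ := (exists_pairSec (J := J) (K := K) F (iRes F g z) (iRes F g z')).choose_spec
  refine (ConcreteCategory.congr_hom (((Φ (J := J) (K := K) F).map μ).hom.naturality g.op) _).symm.trans ?_
  refine congrArg (((Φ (J := J) (K := K) F).map μ).hom.app (op V')) (pairSec_unique F ?_ ?_)
  · refine ((ConcreteCategory.congr_hom (((Φ (J := J) (K := K) F).map Limits.prod.fst).hom.naturality g.op) _).trans
      ?_).trans h₁'.symm
    exact congrArg (iRes F g) h₁
  · refine ((ConcreteCategory.congr_hom (((Φ (J := J) (K := K) F).map Limits.prod.snd).hom.naturality g.op) _).trans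
      ?_).trans h₂'.symm
    exact congrArg (iRes F g) h₂

variable (K) in
/-- A global section of the presheaf gives one of the inverse image. -/
theorem exists_const (s : ∀ W : D, P.obj (op W)) (hs : ∀ ⦃W W' : D⦄ (c : W' ⟶ W), P.map c.op (s W) = s W') (V : C) :
    ∃ z : ISec (J := J) (K := K) F P V, ∀ ⦃V' : C⦄ (g : V' ⟶ V) (W : D) (q : V' ⟶ F.obj W),
      iRes F g z = el F q (s W) := by
  let T : Dᵒᵖ ⥤ Type u := ⊤_ _
  let σ : T ⟶ P :=
    { app := fun W => ↾fun _ => s W.unop
      naturality := fun W W' i => by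
        ext x
        exact (hs i.unop).symm }
  have := preservesFiniteLimits_evΦ (J := J) K F V
  let t : (evΦ (J := J) (K := K) F V).obj T :=
    (IsTerminal.isTerminalObj (evΦ (J := J) (K := K) F V) T terminalIsTerminal).from PUnit.{u+1} PUnit.unit
  refine ⟨((Φ (J := J) (K := K) F).map σ).hom.app (op V) t, fun V' g W q => ?_⟩
  have := preservesFiniteLimits_evΦ (J := J) K F V'
  have hT : ∀ x y : (evΦ (J := J) (K := K) F V').obj T, x = y := fun x y =>
    ConcreteCategory.congr_hom ((IsTerminal.isTerminalObj (evΦ (J := J) (K := K) F V') T terminalIsTerminal).hom_ext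
      (↾fun _ : PUnit.{u+1} => x) (↾fun _ : PUnit.{u+1} => y)) PUnit.unit
  have hW : Nonempty (T.obj (op W)) := ⟨yonedaEquiv (terminal.from (yoneda.obj W))⟩
  refine (ConcreteCategory.congr_hom (((Φ (J := J) (K := K) F).map σ).hom.naturality g.op) t).symm.trans ?_
  refine (congrArg (((Φ (J := J) (K := K) F).map σ).hom.app (op V')) (hT _ (el F q hW.some))).trans ?_
  exact el_natural J K F σ q hW.some

/-- Equal pulled back sections agree locally before pulling back. -/
theorem el_eq_locally {V : C} {W : D} (q : V ⟶ F.obj W) (a b : P.obj (op W))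
    (h : el (J := J) (K := K) F q a = el F q b) :
    ∃ S ∈ J V, ∀ ⦃V' : C⦄ (g : V' ⟶ V), S g → ∃ (W' : D) (c : W' ⟶ W) (q' : V' ⟶ F.obj W'),
      P.map c.op a = P.map c.op b ∧ q' ≫ F.map c = g ≫ q := by
  have := preservesFiniteLimits_evΦ (J := J) K F V
  let z : ISec (J := J) (K := K) F (yoneda.obj W) V := el F q (𝟙 W)
  have hz : ∀ c : P.obj (op W), (evΦ (J := J) (K := K) F V).map (yonedaEquiv.symm c) z = el F q c := fun c => by
    refine (el_natural J K F (yonedaEquiv.symm c) q (𝟙 W)).trans ?_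
    exact congrArg (el F q) (Equiv.apply_symm_apply yonedaEquiv c)
  have hfork := isLimitForkMapOfIsLimit (evΦ (J := J) (K := K) F V)
    (equalizer.condition (yonedaEquiv.symm a) (yonedaEquiv.symm b)) (equalizerIsEqualizer _ _)
  obtain ⟨l, hl⟩ := Fork.IsLimit.lift' hfork (↾fun _ : PUnit.{u+1} => z) (by
    ext x
    exact (hz a).trans (h.trans (hz b).symm))
  obtain ⟨S, hS, hS'⟩ := exists_el (P := equalizer (yonedaEquiv.symm a) (yonedaEquiv.symm b)) F (l PUnit.unit)
  refine ⟨_, J.transitive hS (Sieve.bind S.arrows fun V' g hg =>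
    { arrows := fun V'' e => ∃ (W' : D) (c : W' ⟶ W) (q' : V'' ⟶ F.obj W'),
        P.map c.op a = P.map c.op b ∧ q' ≫ F.map c = (e ≫ g) ≫ q
      downward_closed := fun {Y Z e} ⟨W', c, q', h₁, h₂⟩ k =>
        ⟨W', c, k ≫ q', h₁, by rw [Category.assoc, h₂]; simp⟩ }) ?_, ?_⟩
  · intro V' g hg
    obtain ⟨W', x, q', hx⟩ := hS' g hg
    let ι := equalizer.ι (yonedaEquiv.symm a) (yonedaEquiv.symm b)
    let c : W' ⟶ W := ι.app (op W') x
    have hc : P.map c.op a = P.map c.op b := by
      have h' := ConcreteCategory.congr_hom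
        (NatTrans.congr_app (equalizer.condition (yonedaEquiv.symm a) (yonedaEquiv.symm b)) (op W')) x
      have e : ∀ d : P.obj (op W), (yonedaEquiv.symm d).app (op W') c = P.map c.op d := fun d =>
        (congrArg ((yonedaEquiv.symm d).app (op W')) (Category.comp_id c).symm).trans
          ((ConcreteCategory.congr_hom ((yonedaEquiv.symm d).naturality c.op) (𝟙 W)).trans
            (congrArg (P.map c.op)
              (show (yonedaEquiv.symm d).app (op W) (𝟙 W) = d from Equiv.apply_symm_apply yonedaEquiv d)))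
      exact (e a).symm.trans (h'.trans (e b))
    have e1 : el (J := J) (K := K) (P := yoneda.obj W) F q' c = el F (g ≫ q) (𝟙 W) := by
      refine (el_natural J K F ι q' x).symm.trans ?_
      refine (congrArg _ hx.symm).trans ?_
      refine (ConcreteCategory.congr_hom (((Φ (J := J) (K := K) F).map ι).hom.naturality g.op) _).trans ?_
      refine (congrArg _ (ConcreteCategory.congr_hom hl PUnit.unit)).trans ?_
      exact iRes_el F g q _
    have e2 := congrArg ((κ (J := J) (K := K) F W).hom.app (op V')) e1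
    rw [el, el, κ_map_elt, κ_map_elt, CategoryTheory.Functor.map_id, Category.comp_id] at e2
    obtain ⟨S₁, hS₁, h₁⟩ := eq_locally _ _ e2
    refine J.superset_covering (fun V'' e he => ?_) hS₁
    exact ⟨V', e, g, hg, ⟨W', c, e ≫ q', hc, by rw [Category.assoc, h₁ e he, Category.assoc]⟩, rfl⟩
  · rintro V' g ⟨Y, e, k, hk, hW, rfl⟩
    exact hW

end General

section Ring

variable {C D : Type u} [SmallCategory C] [SmallCategory D] {J : GrothendieckTopology C}
  {K : GrothendieckTopology D} {O_C : Sheaf J CommRingCat.{u}} {O_D : Sheaf K CommRingCat.{u}}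
  (f : ModSite.RMor O_C O_D)

/-- The sheaf of sets under `O_D`. -/
abbrev PT (O_D : Sheaf K CommRingCat.{u}) : Dᵒᵖ ⥤ Type u := O_D.obj ⋙ forget CommRingCat.{u}

/-- The addition. -/
noncomputable def addOp : PT O_D ⨯ PT O_D ⟶ PT O_D where
  app W := ↾fun x => (show O_D.obj.obj W from (Limits.prod.fst : PT O_D ⨯ PT O_D ⟶ _).app W x) +
    (show O_D.obj.obj W from (Limits.prod.snd : PT O_D ⨯ PT O_D ⟶ _).app W x)
  naturality {W W'} i := by
    ext x
    refine Eq.trans ?_ (map_add (O_D.obj.map i).hom _ _).symm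
    exact congrArg₂ (fun (u v : O_D.obj.obj W') => u + v) (ConcreteCategory.congr_hom ((Limits.prod.fst : PT O_D ⨯ PT O_D ⟶ _).naturality i) x)
      (ConcreteCategory.congr_hom ((Limits.prod.snd : PT O_D ⨯ PT O_D ⟶ _).naturality i) x)

/-- The multiplication. -/
noncomputable def mulOp : PT O_D ⨯ PT O_D ⟶ PT O_D where
  app W := ↾fun x => (show O_D.obj.obj W from (Limits.prod.fst : PT O_D ⨯ PT O_D ⟶ _).app W x) *
    (show O_D.obj.obj W from (Limits.prod.snd : PT O_D ⨯ PT O_D ⟶ _).app W x)
  naturality {W W'} i := by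
    ext x
    refine Eq.trans ?_ (map_mul (O_D.obj.map i).hom _ _).symm
    exact congrArg₂ (fun (u v : O_D.obj.obj W') => u * v) (ConcreteCategory.congr_hom ((Limits.prod.fst : PT O_D ⨯ PT O_D ⟶ _).naturality i) x)
      (ConcreteCategory.congr_hom ((Limits.prod.snd : PT O_D ⨯ PT O_D ⟶ _).naturality i) x)

/-- The negation. -/
noncomputable def negOp : PT O_D ⟶ PT O_D where
  app W := ↾fun x => -(show O_D.obj.obj W from x)
  naturality {W W'} i := by
    ext x
    exact (map_neg (O_D.obj.map i).hom _).symm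

/-- The sections of the inverse image of the underlying sheaf of sets. -/
abbrev RSec (V : C) : Type u := ISec (J := J) (K := K) f.fn (PT O_D) V

/-- A pulled back scalar, restricted. -/
noncomputable abbrev rel' {V : C} {W : D} (q : V ⟶ f.fn.obj W) (a : O_D.obj.obj (op W)) : RSec f V :=
  el (J := J) (K := K) (P := PT O_D) f.fn q a

noncomputable instance (V : C) : Add (RSec f V) := ⟨fun z z' => op2 f.fn addOp z z'⟩
noncomputable instance (V : C) : Mul (RSec f V) := ⟨fun z z' => op2 f.fn mulOp z z'⟩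
noncomputable instance (V : C) : Neg (RSec f V) :=
  ⟨fun z => ((Φ (J := J) (K := K) f.fn).map negOp).hom.app (op V) z⟩
noncomputable instance (V : C) : Zero (RSec f V) :=
  ⟨(exists_const (J := J) K f.fn (P := PT O_D) (fun W => (0 : O_D.obj.obj (op W)))
    (fun _ _ c => map_zero (O_D.obj.map c.op).hom) V).choose⟩
noncomputable instance (V : C) : One (RSec f V) :=
  ⟨(exists_const (J := J) K f.fn (P := PT O_D) (fun W => (1 : O_D.obj.obj (op W)))
    (fun _ _ c => map_one (O_D.obj.map c.op).hom) V).choose⟩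

theorem rel'_add {V : C} {W : D} (q : V ⟶ f.fn.obj W) (a b : O_D.obj.obj (op W)) :
    rel' f q a + rel' f q b = rel' f q (a + b) :=
  (op2_el f.fn addOp q a b).trans (congrArg (rel' f q) (congrArg₂ (fun (u v : O_D.obj.obj (op W)) => u + v)
    (fst_pairElt (P := PT O_D) (Q := PT O_D) a b) (snd_pairElt (P := PT O_D) (Q := PT O_D) a b)))

theorem rel'_mul {V : C} {W : D} (q : V ⟶ f.fn.obj W) (a b : O_D.obj.obj (op W)) :
    rel' f q a * rel' f q b = rel' f q (a * b) :=
  (op2_el f.fn mulOp q a b).trans (congrArg (rel' f q) (congrArg₂ (fun (u v : O_D.obj.obj (op W)) => u * v)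
    (fst_pairElt (P := PT O_D) (Q := PT O_D) a b) (snd_pairElt (P := PT O_D) (Q := PT O_D) a b)))

theorem rel'_neg {V : C} {W : D} (q : V ⟶ f.fn.obj W) (a : O_D.obj.obj (op W)) :
    -rel' f q a = rel' f q (-a) :=
  el_natural J K f.fn negOp q a

theorem iRes_add {V V' : C} (g : V' ⟶ V) (z z' : RSec f V) :
    iRes f.fn g (z + z') = iRes f.fn g z + iRes f.fn g z' :=
  iRes_op2 f.fn addOp g z z'

theorem iRes_mul {V V' : C} (g : V' ⟶ V) (z z' : RSec f V) :
    iRes f.fn g (z * z') = iRes f.fn g z * iRes f.fn g z' :=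
  iRes_op2 f.fn mulOp g z z'

theorem iRes_neg {V V' : C} (g : V' ⟶ V) (z : RSec f V) : iRes f.fn g (-z) = -iRes f.fn g z :=
  (ConcreteCategory.congr_hom (((Φ (J := J) (K := K) f.fn).map negOp).hom.naturality g.op) z).symm

theorem iRes_zero' {V V' : C} (g : V' ⟶ V) (W : D) (q : V' ⟶ f.fn.obj W) :
    iRes f.fn g (0 : RSec f V) = rel' f q 0 :=
  (exists_const (J := J) K f.fn (P := PT O_D) (fun W => (0 : O_D.obj.obj (op W)))
    (fun _ _ c => map_zero (O_D.obj.map c.op).hom) V).choose_spec g W q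

theorem iRes_one' {V V' : C} (g : V' ⟶ V) (W : D) (q : V' ⟶ f.fn.obj W) :
    iRes f.fn g (1 : RSec f V) = rel' f q 1 :=
  (exists_const (J := J) K f.fn (P := PT O_D) (fun W => (1 : O_D.obj.obj (op W)))
    (fun _ _ c => map_one (O_D.obj.map c.op).hom) V).choose_spec g W q

noncomputable instance (V : C) : CommRing (RSec f V) :=
  CommRing.ofMinimalAxioms
    (fun x y z => by
      obtain ⟨S, hS, h⟩ := exists_el₃ (J := J) K f.fn x y z
      refine ext_locally f.fn hS fun V' g hg => ?_
      obtain ⟨W, a, b, c, q, ea, eb, ec⟩ := h g hg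
      simp only [iRes_add, ea, eb, ec, rel'_add, add_assoc])
    (fun x => by
      obtain ⟨S, hS, h⟩ := exists_el (P := PT O_D) f.fn x
      refine ext_locally f.fn hS fun V' g hg => ?_
      obtain ⟨W, a, q, ea⟩ := h g hg
      rw [iRes_add, iRes_zero' f g W q, ea, rel'_add]
      exact congrArg (rel' f q) (zero_add (show O_D.obj.obj (op W) from a)))
    (fun x => by
      obtain ⟨S, hS, h⟩ := exists_el (P := PT O_D) f.fn x
      refine ext_locally f.fn hS fun V' g hg => ?_
      obtain ⟨W, a, q, ea⟩ := h g hg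
      rw [iRes_add, iRes_zero' f g W q, iRes_neg, ea, rel'_neg, rel'_add]
      exact congrArg (rel' f q) (neg_add_cancel (show O_D.obj.obj (op W) from a)))
    (fun x y z => by
      obtain ⟨S, hS, h⟩ := exists_el₃ (J := J) K f.fn x y z
      refine ext_locally f.fn hS fun V' g hg => ?_
      obtain ⟨W, a, b, c, q, ea, eb, ec⟩ := h g hg
      simp only [iRes_mul, ea, eb, ec, rel'_mul, mul_assoc])
    (fun x y => by
      obtain ⟨S, hS, h⟩ := exists_el₂ (J := J) K f.fn x y
      refine ext_locally f.fn hS fun V' g hg => ?_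
      obtain ⟨W, a, b, q, ea, eb⟩ := h g hg
      simp only [iRes_mul, ea, eb, rel'_mul, mul_comm])
    (fun x => by
      obtain ⟨S, hS, h⟩ := exists_el (P := PT O_D) f.fn x
      refine ext_locally f.fn hS fun V' g hg => ?_
      obtain ⟨W, a, q, ea⟩ := h g hg
      rw [iRes_mul, iRes_one' f g W q, ea, rel'_mul]
      exact congrArg (rel' f q) (one_mul (show O_D.obj.obj (op W) from a)))
    (fun x y z => by
      obtain ⟨S, hS, h⟩ := exists_el₃ (J := J) K f.fn x y z
      refine ext_locally f.fn hS fun V' g hg => ?_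
      obtain ⟨W, a, b, c, q, ea, eb, ec⟩ := h g hg
      simp only [iRes_mul, iRes_add, ea, eb, ec, rel'_mul, rel'_add, mul_add])

/-- Restriction as a ring map. -/
noncomputable def iResHom {V V' : C} (g : V' ⟶ V) : RSec f V →+* RSec f V' where
  toFun := iRes f.fn g
  map_add' := iRes_add f g
  map_mul' := iRes_mul f g
  map_zero' := by
    obtain ⟨S, hS, h⟩ := exists_over (J := J) K f.fn V'
    refine ext_locally f.fn hS fun V'' k hk => ?_
    obtain ⟨W, ⟨q⟩⟩ := h k hk
    exact (iRes_iRes f.fn g k _).trans ((iRes_zero' f (k ≫ g) W q).trans (iRes_zero' f k W q).symm)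
  map_one' := by
    obtain ⟨S, hS, h⟩ := exists_over (J := J) K f.fn V'
    refine ext_locally f.fn hS fun V'' k hk => ?_
    obtain ⟨W, ⟨q⟩⟩ := h k hk
    exact (iRes_iRes f.fn g k _).trans ((iRes_one' f (k ≫ g) W q).trans (iRes_one' f k W q).symm)

/-- The inverse image of the underlying sheaf of sets, as a presheaf of rings. -/
noncomputable def ringInvPre : Cᵒᵖ ⥤ CommRingCat.{u} where
  obj V := CommRingCat.of (RSec f V.unop)
  map g := CommRingCat.ofHom (iResHom f g.unop)
  map_id V := CommRingCat.hom_ext (RingHom.ext fun z => ConcreteCategory.congr_hom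
    (((Φ (J := J) (K := K) f.fn).obj (PT O_D)).obj.map_id V) z)
  map_comp g h := CommRingCat.hom_ext (RingHom.ext fun z => (iRes_iRes f.fn g.unop h.unop z).symm)

theorem isSheaf_ringInvPre : Presheaf.IsSheaf J (ringInvPre f) :=
  (Presheaf.isSheaf_iff_isSheaf_comp J _ (forget CommRingCat.{u})).2
    (Presheaf.isSheaf_of_iso_iff (NatIso.ofComponents (fun _ => Iso.refl _) (fun _ => rfl)) |>.1
      ((Φ (J := J) (K := K) f.fn).obj (PT O_D)).property)

/-- The inverse image of the underlying sheaf of sets, as a sheaf of rings. -/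
noncomputable def ringInv : Sheaf J CommRingCat.{u} := ⟨ringInvPre f, isSheaf_ringInvPre f⟩

theorem rel'_one {V : C} {W : D} (q : V ⟶ f.fn.obj W) : rel' f q 1 = 1 :=
  (iRes_one' f (𝟙 V) W q).symm.trans
    (ConcreteCategory.congr_hom (((Φ (J := J) (K := K) f.fn).obj (PT O_D)).obj.map_id (op V)) _)

theorem rel'_zero {V : C} {W : D} (q : V ⟶ f.fn.obj W) : rel' f q 0 = 0 :=
  (iRes_zero' f (𝟙 V) W q).symm.trans
    (ConcreteCategory.congr_hom (((Φ (J := J) (K := K) f.fn).obj (PT O_D)).obj.map_id (op V)) _)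

/-- Pulling back scalars. -/
noncomputable def relHom {V : C} {W : D} (q : V ⟶ f.fn.obj W) : O_D.obj.obj (op W) →+* RSec f V where
  toFun := rel' f q
  map_add' a b := (rel'_add f q a b).symm
  map_mul' a b := (rel'_mul f q a b).symm
  map_zero' := rel'_zero f q
  map_one' := rel'_one f q

/-- The map `O_D ⟶ f_*` of the inverse image. -/
noncomputable def toRingInv : O_D ⟶ (f.fn.sheafPushforwardContinuous CommRingCat.{u} K J).obj (ringInv f) :=
  ⟨{ app := fun W => CommRingCat.ofHom (relHom f (W := W.unop) (𝟙 _))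
     naturality := fun W W' c => CommRingCat.hom_ext (RingHom.ext fun a =>
       (el_comp (J := J) (K := K) (P := PT O_D) f.fn c.unop (𝟙 _) a).trans ((congrArg (fun q => rel' f q a)
         ((Category.id_comp _).trans (Category.comp_id _).symm)).trans
         (iRes_el (P := PT O_D) f.fn (f.fn.map c.unop) (𝟙 _) a).symm)) }⟩

/-- The comparison. -/
noncomputable def invToRingInv : f.invRing ⟶ ringInv f :=
  ((f.fn.sheafAdjunctionContinuous CommRingCat.{u} K J).homEquiv _ _).symm (toRingInv f)

/-- The scalars of `f⁻¹O_D` pulled back from `W`. -/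
noncomputable def invEl {V : C} {W : D} (q : V ⟶ f.fn.obj W) : O_D.obj.obj (op W) →+* f.invRing.obj.obj (op V) :=
  (f.invRing.obj.map q.op).hom.comp
    (((f.fn.sheafAdjunctionContinuous CommRingCat.{u} K J).unit.app O_D).hom.app (op W)).hom

theorem invEl_res {V V' : C} (g : V' ⟶ V) {W : D} (q : V ⟶ f.fn.obj W) (a : O_D.obj.obj (op W)) :
    (f.invRing.obj.map g.op).hom (invEl f q a) = invEl f (g ≫ q) a :=
  (ConcreteCategory.congr_hom (f.invRing.obj.map_comp q.op g.op) _).symm

theorem invEl_comp {V : C} {W W' : D} (c : W' ⟶ W) (q : V ⟶ f.fn.obj W') (a : O_D.obj.obj (op W)) :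
    invEl f q ((O_D.obj.map c.op).hom a) = invEl f (q ≫ f.fn.map c) a := by
  refine (congrArg (f.invRing.obj.map q.op).hom (ConcreteCategory.congr_hom
    (((f.fn.sheafAdjunctionContinuous CommRingCat.{u} K J).unit.app O_D).hom.naturality c.op) a)).trans ?_
  exact (ConcreteCategory.congr_hom (f.invRing.obj.map_comp (f.fn.map c).op q.op) _).symm

theorem invToRingInv_invEl {V : C} {W : D} (q : V ⟶ f.fn.obj W) (a : O_D.obj.obj (op W)) :
    (invToRingInv f).hom.app (op V) (invEl f q a) = rel' f q a := by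
  refine (ConcreteCategory.congr_hom ((invToRingInv f).hom.naturality q.op) _).trans ?_
  refine (congrArg ((ringInv f).obj.map q.op).hom (congrArg (fun k => k.hom.app (op W) a)
    (((f.fn.sheafAdjunctionContinuous CommRingCat.{u} K J).homEquiv_unit _ _ _).symm.trans
      (Equiv.apply_symm_apply _ (toRingInv f))))).trans ?_
  exact (iRes_el (P := PT O_D) f.fn q (𝟙 _) a).trans (congrArg (fun k => rel' f k a) (Category.comp_id q))

/-- Pulled back scalars agreeing in `f⁻¹O_D` agree locally. -/
theorem invEl_eq_locally {V : C} {W : D} (q : V ⟶ f.fn.obj W) (a b : O_D.obj.obj (op W))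
    (h : invEl f q a = invEl f q b) :
    ∃ S ∈ J V, ∀ ⦃V' : C⦄ (g : V' ⟶ V), S g → ∃ (W' : D) (c : W' ⟶ W) (q' : V' ⟶ f.fn.obj W'),
      (O_D.obj.map c.op).hom a = (O_D.obj.map c.op).hom b ∧ q' ≫ f.fn.map c = g ≫ q :=
  el_eq_locally (J := J) (K := K) (P := PT O_D) f.fn q a b
    ((invToRingInv_invEl f q a).symm.trans ((congrArg _ h).trans (invToRingInv_invEl f q b)))

/-- The map back on underlying sheaves of sets. -/
noncomputable def ringInvBack :
    (Φ (J := J) (K := K) f.fn).obj (PT O_D) ⟶ (sheafCompose J (forget CommRingCat.{u})).obj f.invRing :=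
  ((f.fn.sheafAdjunctionContinuous (Type u) K J).homEquiv _ _).symm
    (((sheafificationAdjunction K (Type u)).homEquiv (PT O_D)
      ((f.fn.sheafPushforwardContinuous (Type u) K J).obj ((sheafCompose J (forget CommRingCat.{u})).obj f.invRing))).symm
      (Functor.whiskerRight ((f.fn.sheafAdjunctionContinuous CommRingCat.{u} K J).unit.app O_D).hom (forget CommRingCat.{u})))

/-- The map back on sections. -/
noncomputable def bk {V : C} (z : RSec f V) : f.invRing.obj.obj (op V) :=
  (ringInvBack f).hom.app (op V) z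

theorem ringInvBack_rel' {V : C} {W : D} (q : V ⟶ f.fn.obj W) (a : O_D.obj.obj (op W)) :
    bk f (rel' f q a) = invEl f q a := by
  let y : PT O_D ⟶ ((f.fn.sheafPushforwardContinuous (Type u) K J).obj
      ((sheafCompose J (forget CommRingCat.{u})).obj f.invRing)).obj :=
    Functor.whiskerRight ((f.fn.sheafAdjunctionContinuous CommRingCat.{u} K J).unit.app O_D).hom (forget CommRingCat.{u})
  have h1 : (f.fn.sheafAdjunctionContinuous (Type u) K J).unit.app _ ≫
      (f.fn.sheafPushforwardContinuous (Type u) K J).map (ringInvBack f) =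
      ((sheafificationAdjunction K (Type u)).homEquiv (PT O_D) ((f.fn.sheafPushforwardContinuous (Type u) K J).obj
        ((sheafCompose J (forget CommRingCat.{u})).obj f.invRing))).symm y :=
    ((f.fn.sheafAdjunctionContinuous (Type u) K J).homEquiv_unit _ _ _).symm.trans (Equiv.apply_symm_apply _ _)
  have h2 : ηP (J := J) (K := K) f.fn (PT O_D) ≫ Functor.whiskerLeft f.fn.op (ringInvBack f).hom = y := by
    unfold ηP
    rw [Category.assoc]
    exact (congrArg (toSheafify K _ ≫ ·) (congrArg (fun t => t.hom) h1)).trans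
      (toSheafify_sheafifyLift K y ((f.fn.sheafPushforwardContinuous (Type u) K J).obj
        ((sheafCompose J (forget CommRingCat.{u})).obj f.invRing)).property)
  refine (ConcreteCategory.congr_hom ((ringInvBack f).hom.naturality q.op) _).trans ?_
  exact congrArg (f.invRing.obj.map q.op).hom (ConcreteCategory.congr_hom (NatTrans.congr_app h2 (op W)) a)

/-- Sections of `f⁻¹O_D` equal on a covering sieve are equal. -/
theorem inv_ext {V : C} {S : Sieve V} (hS : S ∈ J V) {z z' : f.invRing.obj.obj (op V)}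
    (h : ∀ ⦃V' : C⦄ (g : V' ⟶ V), S g → (f.invRing.obj.map g.op).hom z = (f.invRing.obj.map g.op).hom z') : z = z' :=
  (((isSheaf_iff_isSheaf_of_type _ _).1
    ((sheafCompose J (forget CommRingCat.{u})).obj f.invRing).property).isSeparated S hS).ext fun V' g hg => h g hg

theorem res_ringInvBack {V V' : C} (g : V' ⟶ V) (z : RSec f V) :
    (f.invRing.obj.map g.op).hom (bk f z) = bk f (iRes f.fn g z) :=
  (ConcreteCategory.congr_hom ((ringInvBack f).hom.naturality g.op) z).symm

/-- The map back, at one object, as a map of rings. -/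
noncomputable def ringInvBackApp (V : C) : RSec f V →+* f.invRing.obj.obj (op V) where
  toFun z := bk f z
  map_one' := by
    obtain ⟨S, hS, h⟩ := exists_over (J := J) K f.fn V
    refine inv_ext f hS fun V' g hg => ?_
    obtain ⟨W, ⟨q⟩⟩ := h g hg
    exact (res_ringInvBack f g 1).trans ((congrArg _ (iRes_one' f g W q)).trans
      ((ringInvBack_rel' f q 1).trans ((map_one _).trans (map_one _).symm)))
  map_zero' := by
    obtain ⟨S, hS, h⟩ := exists_over (J := J) K f.fn V
    refine inv_ext f hS fun V' g hg => ?_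
    obtain ⟨W, ⟨q⟩⟩ := h g hg
    exact (res_ringInvBack f g 0).trans ((congrArg _ (iRes_zero' f g W q)).trans
      ((ringInvBack_rel' f q 0).trans ((map_zero _).trans (map_zero _).symm)))
  map_mul' z z' := by
    obtain ⟨S, hS, h⟩ := exists_el₂ (J := J) K f.fn z z'
    refine inv_ext f hS fun V' g hg => ?_
    obtain ⟨W, a, b, q, ea, eb⟩ := h g hg
    refine (res_ringInvBack f g _).trans ?_
    refine Eq.trans ?_ ((map_mul (f.invRing.obj.map g.op).hom _ _).trans
      (congrArg₂ (fun (x y : f.invRing.obj.obj (op V')) => x * y) (res_ringInvBack f g z) (res_ringInvBack f g z'))).symm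
    rw [iRes_mul, ea, eb, rel'_mul, ringInvBack_rel', ringInvBack_rel', ringInvBack_rel']
    exact map_mul _ _ _
  map_add' z z' := by
    obtain ⟨S, hS, h⟩ := exists_el₂ (J := J) K f.fn z z'
    refine inv_ext f hS fun V' g hg => ?_
    obtain ⟨W, a, b, q, ea, eb⟩ := h g hg
    refine (res_ringInvBack f g _).trans ?_
    refine Eq.trans ?_ ((map_add (f.invRing.obj.map g.op).hom _ _).trans
      (congrArg₂ (fun (x y : f.invRing.obj.obj (op V')) => x + y) (res_ringInvBack f g z) (res_ringInvBack f g z'))).symm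
    rw [iRes_add, ea, eb, rel'_add, ringInvBack_rel', ringInvBack_rel', ringInvBack_rel']
    exact map_add _ _ _

/-- The map back is a map of sheaves of rings. -/
noncomputable def ringInvBackHom : ringInv f ⟶ f.invRing :=
  ⟨{ app := fun V => CommRingCat.ofHom (ringInvBackApp f V.unop)
     naturality := fun V V' g => CommRingCat.hom_ext (RingHom.ext fun z =>
       (res_ringInvBack f g.unop z).symm) }⟩

theorem invToRingInv_back : invToRingInv f ≫ ringInvBackHom f = 𝟙 f.invRing := by
  let adj := f.fn.sheafAdjunctionContinuous CommRingCat.{u} K J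
  apply (adj.homEquiv _ _).injective
  rw [Adjunction.homEquiv_naturality_right, invToRingInv, Equiv.apply_symm_apply, adj.homEquiv_unit,
    CategoryTheory.Functor.map_id]
  refine Eq.trans ?_ (Category.comp_id _).symm
  refine Sheaf.hom_ext (NatTrans.ext (funext fun W => CommRingCat.hom_ext (RingHom.ext fun a => ?_)))
  exact (ringInvBack_rel' f (W := W.unop) (𝟙 _) a).trans
    (ConcreteCategory.congr_hom (f.invRing.obj.map_id _) _)

/-- Every section of `f⁻¹O_D` is locally pulled back. -/
theorem exists_invEl {V : C} (z : f.invRing.obj.obj (op V)) :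
    ∃ S ∈ J V, ∀ ⦃V' : C⦄ (g : V' ⟶ V), S g → ∃ (W : D) (a : O_D.obj.obj (op W)) (q : V' ⟶ f.fn.obj W),
      (f.invRing.obj.map g.op).hom z = invEl f q a := by
  let z' : RSec f V := (invToRingInv f).hom.app (op V) z
  obtain ⟨S, hS, h⟩ := exists_el (P := PT O_D) f.fn z'
  refine ⟨S, hS, fun V' g hg => ?_⟩
  obtain ⟨W, a, q, e⟩ := h g hg
  refine ⟨W, a, q, ?_⟩
  refine Eq.trans ?_ ((congrArg (fun w : RSec f V' => bk f w) e).trans (ringInvBack_rel' f q a))
  refine Eq.trans ?_ (res_ringInvBack f g z')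
  exact congrArg (f.invRing.obj.map g.op).hom
    (congrArg (fun k : f.invRing ⟶ f.invRing => k.hom.app (op V) z) (invToRingInv_back f)).symm

theorem invSharp_invEl {V : C} {W : D} (q : V ⟶ f.fn.obj W) (a : O_D.obj.obj (op W)) :
    (f.invSharp.hom.app (op V)).hom (invEl f q a) =
      (O_C.obj.map q.op).hom ((f.sharp.hom.app (op W)).hom a) := by
  refine (ConcreteCategory.congr_hom (f.invSharp.hom.naturality q.op) _).trans ?_
  refine congrArg (O_C.obj.map q.op).hom ?_
  exact congrArg (fun k => k.hom.app (op W) a)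
    (((f.fn.sheafAdjunctionContinuous CommRingCat.{u} K J).homEquiv_unit _ _ _).symm.trans
      (Equiv.apply_symm_apply _ f.sharp))

end Ring

end GrothLib.PullLoc25
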