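import Groth.Agent.Lib.PullLoc25.Exact
import Groth.Agent.Lib.PullLoc25.RingPull

/-!
# Flatness over the pulled back sheaf of rings gives exactness of the inverse image
-/

set_option autoImplicit false
universe u

open CategoryTheory CategoryTheory.Limits Opposite GrothLib.SheafCoh

namespace GrothLib.PullLoc25

variable {C D : Type u} [SmallCategory C] [SmallCategory D] {J : GrothendieckTopology C}
  {K : GrothendieckTopology D} {O_C : Sheaf J CommRingCat.{u}} {O_D : Sheaf K CommRingCat.{u}}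
  (f : ModSite.RMor O_C O_D)

/-- Finitely many equalities of pulled back scalars hold locally before pulling back. -/
theorem invEl_eq_locally_fin : ∀ (m : ℕ) {V : C} {W : D} (q : V ⟶ f.fn.obj W)
    (a b : Fin m → O_D.obj.obj (op W)) (_ : ∀ k, invEl f q (a k) = invEl f q (b k)),
    ∃ S ∈ J V, ∀ ⦃V' : C⦄ (g : V' ⟶ V), S g → ∃ (W' : D) (c : W' ⟶ W) (q' : V' ⟶ f.fn.obj W'),
      (∀ k, (O_D.obj.map c.op).hom (a k) = (O_D.obj.map c.op).hom (b k)) ∧ q' ≫ f.fn.map c = g ≫ q := by
  intro m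
  induction m with
  | zero =>
    intro V W q a b h
    exact ⟨⊤, J.top_mem V, fun V' g _ => ⟨W, 𝟙 W, g ≫ q, fun k => k.elim0, by simp⟩⟩
  | succ m ih =>
    intro V W q a b h
    obtain ⟨S, hS, hS'⟩ := ih q (fun k => a k.succ) (fun k => b k.succ) (fun k => h k.succ)
    let R : Sieve V :=
      { arrows := fun V' g => ∃ (W' : D) (c : W' ⟶ W) (q' : V' ⟶ f.fn.obj W'),
          (∀ k, (O_D.obj.map c.op).hom (a k) = (O_D.obj.map c.op).hom (b k)) ∧ q' ≫ f.fn.map c = g ≫ q
        downward_closed := fun {Y Z g} ⟨W', c, q', h₁, h₂⟩ k =>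
          ⟨W', c, k ≫ q', h₁, by rw [Category.assoc, h₂, Category.assoc]⟩ }
    refine ⟨R, J.transitive hS R fun V' g hg => ?_, fun V' g hg => hg⟩
    obtain ⟨W', c, q', hc, hq⟩ := hS' g hg
    obtain ⟨S₁, hS₁, h₁⟩ := invEl_eq_locally f q' ((O_D.obj.map c.op).hom (a 0)) ((O_D.obj.map c.op).hom (b 0)) (by
      rw [invEl_comp, invEl_comp, hq, ← invEl_res, ← invEl_res, h 0])
    refine J.superset_covering (fun V'' e he => ?_) hS₁
    obtain ⟨W'', c', q'', hc', hq'⟩ := h₁ e he
    have key : ∀ x, (O_D.obj.map (c' ≫ c).op).hom x = (O_D.obj.map c'.op).hom ((O_D.obj.map c.op).hom x) :=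
      fun x => by rw [op_comp, O_D.obj.map_comp]; rfl
    refine ⟨W'', c' ≫ c, q'', fun k => ?_, by rw [f.fn.map_comp, reassoc_of% hq', hq, Category.assoc]⟩
    cases k using Fin.cases with
    | zero => rw [key, key, hc']
    | succ k => rw [key, key, hc k]

/-- Finitely many scalars of `f⁻¹O_D` come locally from one object, which may be taken over a given one. -/
theorem exists_invEl_fin : ∀ (m : ℕ) {V : C} {W : D} (q : V ⟶ f.fn.obj W) (z : Fin m → f.invRing.obj.obj (op V)),
    ∃ S ∈ J V, ∀ ⦃V' : C⦄ (g : V' ⟶ V), S g → ∃ (W' : D) (c : W' ⟶ W) (q' : V' ⟶ f.fn.obj W'),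
      q' ≫ f.fn.map c = g ≫ q ∧ ∀ k, ∃ a, (f.invRing.obj.map g.op).hom (z k) = invEl f q' a := by
  intro m
  induction m with
  | zero =>
    intro V W q z
    exact ⟨⊤, J.top_mem V, fun V' g _ => ⟨W, 𝟙 W, g ≫ q, by simp, fun k => k.elim0⟩⟩
  | succ m ih =>
    intro V W q z
    obtain ⟨S, hS, hS'⟩ := ih q (fun k => z k.succ)
    obtain ⟨S₀, hS₀, hS₀'⟩ := exists_invEl f (z 0)
    let R : Sieve V :=
      { arrows := fun V' g => ∃ (W' : D) (c : W' ⟶ W) (q' : V' ⟶ f.fn.obj W'),
          q' ≫ f.fn.map c = g ≫ q ∧ ∀ k, ∃ a, (f.invRing.obj.map g.op).hom (z k) = invEl f q' a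
        downward_closed := fun {Y Z g} ⟨W', c, q', h₁, h₂⟩ k =>
          ⟨W', c, k ≫ q', by rw [Category.assoc, h₁, Category.assoc], fun i => by
            obtain ⟨a, ha⟩ := h₂ i
            exact ⟨a, by rw [op_comp, f.invRing.obj.map_comp, CommRingCat.hom_comp, RingHom.comp_apply, ha,
              invEl_res]⟩⟩ }
    refine ⟨R, J.transitive (J.intersection_covering hS hS₀) R fun V' g hg => ?_, fun V' g hg => hg⟩
    obtain ⟨W₁, c, q₁, hq, hz⟩ := hS' g hg.1
    obtain ⟨W₀, a₀, q₀, hz₀⟩ := hS₀' g hg.2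
    obtain ⟨T, hT, hT'⟩ := exists_pair (J := J) K f.fn q₁ q₀
    refine J.superset_covering (fun V'' e he => ?_) hT
    obtain ⟨W', c₁, c₀, q', e₁, e₀⟩ := hT' e he
    refine ⟨W', c₁ ≫ c, q', by rw [f.fn.map_comp, reassoc_of% e₁, hq, Category.assoc], fun k => ?_⟩
    cases k using Fin.cases with
    | zero =>
      exact ⟨(O_D.obj.map c₀.op).hom a₀, by
        rw [op_comp, f.invRing.obj.map_comp, CommRingCat.hom_comp, RingHom.comp_apply, hz₀, invEl_res, invEl_comp, e₀]⟩
    | succ k =>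
      obtain ⟨a, ha⟩ := hz k
      exact ⟨(O_D.obj.map c₁.op).hom a, by
        rw [op_comp, f.invRing.obj.map_comp, CommRingCat.hom_comp, RingHom.comp_apply, ha, invEl_res, invEl_comp, e₁]⟩

/-- Flatness of `O_C` over `f⁻¹O_D` makes scalar relations locally trivial. -/
theorem locFlat_of_isFlat_baseMod (hf : ModSite.IsFlat f.baseMod) : LocFlat f := by
  intro V W q α β _ _ d r hr
  classical
  have hsmul : ∀ {U : C} (c : f.invRing.obj.obj (op U)) (x : ModSite.sect f.baseMod U),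
      c • x = (show ModSite.sect f.baseMod U from
        (f.invSharp.hom.app (op U)).hom c * (show O_C.obj.obj (op U) from x)) := fun c x => rfl
  let m := Fintype.card β
  let eβ := Fintype.equivFin β
  have h0 := (FlatRel25.locRel_of_isFlat hf).multi (U := V) (fun b i => invEl f q (r b i))
    (fun i => (show ModSite.sect f.baseMod V from d i)) (fun b => by
      refine Eq.trans (Finset.sum_congr rfl fun i _ => ?_) (hr b)
      refine (hsmul _ _).trans ?_
      change (f.invSharp.hom.app (op V)).hom (invEl f q (r b i)) * d i = d i * coef f q (r b i)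
      rw [invSharp_invEl, mul_comm]
      rfl)
  refine ⟨_, J.transitive h0 (Sieve.mk
    (fun V' g => ∃ (W' : D) (c : W' ⟶ W) (q' : V' ⟶ f.fn.obj W'), q' ≫ f.fn.map c = g ≫ q ∧
      ∃ (l : ℕ) (u : Fin l → O_C.obj.obj (op V')) (a : α → Fin l → O_D.obj.obj (op W')),
        (∀ i, FlatRel25.resR g (d i) = ∑ j, coef f q' (a i j) * u j) ∧
        ∀ b j, ∑ i, a i j * FlatRel25.resR c (r b i) = 0)
    (fun {Y Z g} ⟨W', c, q', hq, l, u, a, h₁, h₂⟩ k => ⟨W', c, k ≫ q', by rw [Category.assoc, hq, Category.assoc],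
      l, fun j => FlatRel25.resR k (u j), a, fun i => by
        rw [← FlatRel25.resR_resR, h₁ i]
        simp only [FlatRel25.resR, map_sum, map_mul]
        exact Finset.sum_congr rfl fun j _ => congrArg (· * _) (coef_resR f q' k (a i j)), h₂⟩)) ?_,
    fun V' g hg => hg⟩
  intro V₁ g₁ hg₁
  obtain ⟨l, t, a, ht, ha⟩ := hg₁
  let eα := Fintype.equivFin (α × Fin l)
  obtain ⟨S₁, hS₁, h₁⟩ := exists_invEl_fin f _ (g₁ ≫ q) (fun k => a (eα.symm k).1 (eα.symm k).2)
  refine J.transitive hS₁ _ fun V₂ g₂ hg₂ => ?_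
  obtain ⟨W₂, c₂, q₂, hq₂, hz⟩ := h₁ g₂ hg₂
  choose a' ha' using hz
  let A : α → Fin l → O_D.obj.obj (op W₂) := fun i j => a' (eα (i, j))
  have hA : ∀ i j, (f.invRing.obj.map g₂.op).hom (a i j) = invEl f q₂ (A i j) := fun i j => by
    have := ha' (eα (i, j))
    rwa [Equiv.symm_apply_apply] at this
  let eq' := Fintype.equivFin (β × Fin l)
  obtain ⟨S₂, hS₂, h₂⟩ := invEl_eq_locally_fin f _ q₂
    (fun k => ∑ i, A i (eq'.symm k).2 * FlatRel25.resR c₂ (r (eq'.symm k).1 i)) (fun _ => 0) (fun k => by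
      rw [map_zero, map_sum]
      have h := congrArg (f.invRing.obj.map g₂.op).hom (ha (eq'.symm k).1 (eq'.symm k).2)
      rw [map_zero, map_sum] at h
      refine Eq.trans (Finset.sum_congr rfl fun i _ => ?_) h
      simp only [map_mul, hA, FlatRel25.resR]
      refine congrArg (_ * ·) ?_
      rw [invEl_res, invEl_res, invEl_comp, hq₂])
  refine J.superset_covering (fun V₃ g₃ hg₃ => ?_) hS₂
  obtain ⟨W₃, c₃, q₃, he, hq₃⟩ := h₂ g₃ hg₃
  refine ⟨W₃, c₃ ≫ c₂, q₃, by rw [f.fn.map_comp, reassoc_of% hq₃, hq₂, Category.assoc, Category.assoc], l,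
    fun j => FlatRel25.resR (g₃ ≫ g₂) (show O_C.obj.obj (op V₁) from t j),
    fun i j => FlatRel25.resR c₃ (A i j), fun i => ?_, fun b j => ?_⟩
  · have h := congrArg (fun x : ModSite.sect f.baseMod V₁ => FlatRel25.resR (g₃ ≫ g₂) (show O_C.obj.obj (op V₁) from x))
      (ht i)
    refine Eq.trans ?_ (h.trans ?_)
    · refine Eq.trans ?_ (FlatRel25.resR_resR (O := O_C) g₁ (g₃ ≫ g₂) (d i)).symm
      rw [Category.assoc]
    · simp only [hsmul]
      change FlatRel25.resR (g₃ ≫ g₂) (∑ j, (f.invSharp.hom.app (op V₁)).hom (a i j) * (show O_C.obj.obj (op V₁) from t j)) = _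
      simp only [FlatRel25.resR, map_sum, map_mul]
      refine Finset.sum_congr rfl fun j _ => congrArg (· * _) ?_
      refine (ConcreteCategory.congr_hom (f.invSharp.hom.naturality (g₃ ≫ g₂).op) (a i j)).symm.trans ?_
      change (f.invSharp.hom.app (op V₃)).hom ((f.invRing.obj.map (g₃ ≫ g₂).op).hom (a i j)) = _
      rw [op_comp, f.invRing.obj.map_comp, CommRingCat.hom_comp, RingHom.comp_apply, hA, invEl_res, invSharp_invEl]
      exact ((coef_map f c₃ q₃ (A i j)).trans (congrArg (fun k => coef f k (A i j)) hq₃)).symm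
  · have h := he (eq' (b, j))
    simp only [Equiv.symm_apply_apply, map_zero, map_sum, map_mul] at h
    refine Eq.trans (Finset.sum_congr rfl fun i _ => ?_) h
    refine congrArg (_ * ·) ?_
    exact (FlatRel25.resR_resR c₂ c₃ _).symm

/-- Flat morphisms have exact inverse image. -/
theorem isFlat_of_isFlat_baseMod (hf : ModSite.IsFlat f.baseMod) : f.IsFlat :=
  isFlat_of_locFlat f (locFlat_of_isFlat_baseMod f hf)

end GrothLib.PullLoc25
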