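import Groth.Agent.Lib.PullLoc25.Unit
import Groth.Agent.Lib.PullLoc25.Model

/-!
# Inverse images of free modules
-/

set_option autoImplicit false
universe u

open CategoryTheory CategoryTheory.Limits Opposite GrothLib.SheafCoh

namespace GrothLib.PullLoc25

variable {C D : Type u} [SmallCategory C] [SmallCategory D] {J : GrothendieckTopology C}
  {K : GrothendieckTopology D} {O_C : Sheaf J CommRingCat.{u}} {O_D : Sheaf K CommRingCat.{u}}
  (f : ModSite.RMor O_C O_D)

/-- The inverse image of a free module is free. -/
noncomputable def pullFreeIso (I : Type u) :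
    f.pull.obj (SheafOfModules.free (R := ModSite.ringSh O_D) I) ≅
      SheafOfModules.free (R := ModSite.ringSh O_C) I :=
  haveI : PreservesColimitsOfShape (Discrete I) f.pull := f.adj.leftAdjoint_preservesColimits.preservesColimitsOfShape
  PreservesCoproduct.iso f.pull _ ≪≫ Sigma.mapIso (fun _ => pullUnitIso f)

end GrothLib.PullLoc25
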