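import Groth.Agent.Lib.PullLoc25.ExactFlat
import Groth.Agent.Lib.ModFlat.Cycles
import Mathlib.Algebra.Homology.HomologicalComplexAbelian
import Mathlib.Algebra.Homology.HomotopyCategory.MappingCone

/-!
# Inverse images of K-flat complexes with flat terms
-/

set_option autoImplicit false
universe u

open CategoryTheory CategoryTheory.Limits HomologicalComplex GrothLib.ModFlat

namespace GrothLib.PullLoc25

attribute [local instance] Abelian.hasFiniteBiproducts

variable {C D : Type u} [SmallCategory C] [SmallCategory D] {J : GrothendieckTopology C}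
  {K : GrothendieckTopology D} {O_C : Sheaf J CommRingCat.{u}} {O_D : Sheaf K CommRingCat.{u}}
  (f : ModSite.RMor O_C O_D)

theorem additive_pull : f.pull.Additive :=
  haveI : PreservesColimitsOfSize.{0, 0} f.pull := f.adj.leftAdjoint_preservesColimits
  haveI : PreservesBinaryBiproducts f.pull := preservesBinaryBiproducts_of_preservesBinaryCoproducts _
  Functor.additive_of_preservesBinaryBiproducts _

attribute [local instance] additive_pull

/-- The inverse image on complexes. -/
noncomputable abbrev pullCx : CochainComplex (ModSite.Mod O_D) ℤ ⥤ CochainComplex (ModSite.Mod O_C) ℤ :=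
  f.pull.mapHomologicalComplex (ComplexShape.up ℤ)

/-- The inverse image of a complex with zero differential. -/
noncomputable def pullZeroCxIso (F : ℤ → ModSite.Mod O_D) :
    (pullCx f).obj (zeroCx F) ≅ zeroCx fun n => f.pull.obj (F n) :=
  HomologicalComplex.Hom.isoOfComponents (fun _ => Iso.refl _) fun i j _ => by
    exact (Category.id_comp _).trans ((f.pull.map_zero _ _).symm.trans (Category.comp_id _).symm)

theorem isKFlat_pull_zeroCx {F : ℤ → ModSite.Mod O_D} (h : ∀ n, ModSite.IsFlat (F n)) :
    ModSite.IsKFlat ((pullCx f).obj (zeroCx F)) :=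
  isKFlat_of_iso (pullZeroCxIso f F).symm (isKFlat_zeroCx fun n => isFlat_pull f (h n))

theorem isKFlat_pull_mappingCone {P Q : CochainComplex (ModSite.Mod O_D) ℤ} (φ : P ⟶ Q)
    (hP : ModSite.IsKFlat ((pullCx f).obj P)) (hQ : ModSite.IsKFlat ((pullCx f).obj Q)) :
    ModSite.IsKFlat ((pullCx f).obj (CochainComplex.mappingCone φ)) :=
  isKFlat_of_iso (CochainComplex.mappingCone.mapHomologicalComplexIso φ f.pull).symm
    (isKFlat_mappingCone _ hP hQ)

theorem isKFlat_pull_biprod {P Q : CochainComplex (ModSite.Mod O_D) ℤ}
    (hP : ModSite.IsKFlat ((pullCx f).obj P)) (hQ : ModSite.IsKFlat ((pullCx f).obj Q)) :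
    ModSite.IsKFlat ((pullCx f).obj (P ⊞ Q)) :=
  have : PreservesBinaryBiproducts (pullCx f) := preservesBinaryBiproducts_of_preservesBiproducts _
  isKFlat_of_iso ((pullCx f).mapBiprod P Q).symm (isKFlat_biprod hP hQ)

/-- The inverse image of the standard resolution is K-flat. -/
theorem isKFlat_pull_resObj (G : CochainComplex (ModSite.Mod O_D) ℤ) :
    ModSite.IsKFlat ((pullCx f).obj (resObj (startRes G))) := by
  have h : ∀ k, ModSite.IsKFlat ((pullCx f).obj (resSeq (startRes G) k).K) := by
    intro k
    induction k with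
    | zero =>
      exact isKFlat_pull_biprod f (isKFlat_pull_zeroCx f fun _ => flat_coverObj _)
        (isKFlat_pull_mappingCone f _ (isKFlat_pull_zeroCx f fun _ => flat_coverObj _)
          (isKFlat_pull_zeroCx f fun _ => flat_coverObj _))
    | succ k ih => exact isKFlat_pull_mappingCone f _ (isKFlat_pull_zeroCx f fun _ => flat_coverObj _) ih
  have : PreservesColimitsOfSize.{0, 0} f.pull := f.adj.leftAdjoint_preservesColimits
  exact isKFlat_of_iso (preservesColimitIso (pullCx f) (resFun (startRes G))).symm
    (isKFlat_colimit (resFun (startRes G) ⋙ pullCx f) h)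

variable (K' : CochainComplex (ModSite.Mod O_D) ℤ)

/-- The inclusion of the cycles. -/
noncomputable def cyclesIncl : zeroCx (fun n => K'.cycles n) ⟶ K' where
  f n := K'.iCycles n
  comm' i j _ := (K'.iCycles_d i j).trans zero_comp.symm

/-- The map onto the next cycles. -/
noncomputable def cyclesProj : K' ⟶ zeroCx (fun n => K'.cycles (n + 1)) where
  f n := K'.toCycles n (n + 1)
  comm' i j h := by
    obtain rfl : i + 1 = j := h
    change K'.toCycles i (i + 1) ≫ (0 : K'.cycles (i + 1) ⟶ K'.cycles (i + 1 + 1)) =
      K'.d i (i + 1) ≫ K'.toCycles (i + 1) (i + 1 + 1)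
    refine comp_zero.trans ((cancel_mono (K'.iCycles (i + 1 + 1))).1 ?_)
    rw [zero_comp, Category.assoc, K'.toCycles_i, K'.d_comp_d]

theorem cyclesIncl_proj : cyclesIncl K' ≫ cyclesProj K' = 0 :=
  HomologicalComplex.hom_ext _ _ fun n => by
    change K'.iCycles n ≫ K'.toCycles n (n + 1) = 0
    rw [← cancel_mono (K'.iCycles (n + 1)), Category.assoc, K'.toCycles_i, K'.iCycles_d, zero_comp]

/-- An acyclic complex is an extension of complexes of cycles with zero differential. -/
noncomputable def cyclesShort : ShortComplex (CochainComplex (ModSite.Mod O_D) ℤ) :=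
  ShortComplex.mk (cyclesIncl K') (cyclesProj K') (cyclesIncl_proj K')

variable {K'} in
theorem cyclesShort_shortExact_eval (hac : K'.Acyclic) (n : ℤ) :
    ((cyclesShort K').map (HomologicalComplex.eval _ _ n)).ShortExact := by
  have hex : ((cyclesShort K').map (HomologicalComplex.eval _ _ n)).Exact := by
    rw [ShortComplex.exact_iff_exact_up_to_refinements]
    intro A (x : A ⟶ K'.X n) (hx : x ≫ K'.toCycles n (n + 1) = 0)
    refine ⟨A, 𝟙 A, inferInstance, K'.liftCycles x (n + 1) (by simp) ?_, ?_⟩
    · rw [← K'.toCycles_i, ← Category.assoc, hx, zero_comp]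
    · exact (Category.id_comp _).trans (K'.liftCycles_i x (n + 1) _ _).symm
  exact
    { exact := hex
      mono_f := inferInstanceAs (Mono (K'.iCycles n))
      epi_g := by
        change Epi (K'.toCycles n (n + 1))
        rw [epi_iff_surjective_up_to_refinements]
        intro A a
        have h := (K'.exactAt_iff' n (n + 1) (n + 1 + 1) (by simp) (by simp)).1 (hac (n + 1))
        obtain ⟨A', π, hπ, y, hy⟩ := h.exact_up_to_refinements (a ≫ K'.iCycles (n + 1)) (by
          change (a ≫ K'.iCycles (n + 1)) ≫ K'.d (n + 1) (n + 1 + 1) = 0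
          rw [Category.assoc, K'.iCycles_d, comp_zero])
        refine ⟨A', π, hπ, y, (cancel_mono (K'.iCycles (n + 1))).1 ?_⟩
        rw [Category.assoc, Category.assoc, K'.toCycles_i]
        exact hy }

variable {K'} in
/-- An acyclic K-flat complex with flat terms stays K-flat. -/
theorem isKFlat_pull_of_acyclic (hac : K'.Acyclic) (hK : ModSite.IsKFlat K') (hfl : FlatTerms K') :
    ModSite.IsKFlat ((pullCx f).obj K') := by
  have hcy : ∀ n, ModSite.IsFlat (K'.cycles n) := fun n => isFlat_cycles hac hK hfl n
  have hS : ((cyclesShort K').map (pullCx f)).ShortExact :=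
    HomologicalComplex.shortExact_of_degreewise_shortExact _ fun n =>
      shortExact_pull f _ (cyclesShort_shortExact_eval hac n) (hcy (n + 1))
  exact isKFlat_X₂ (S := (cyclesShort K').map (pullCx f))
    (tensorCx_shortExact_of_flat hS (flatTerms_of_iso (pullZeroCxIso f _).symm
      (flatTerms_zeroCx fun n => isFlat_pull f (hcy (n + 1)))))
    (isKFlat_pull_zeroCx f hcy) (isKFlat_pull_zeroCx f fun n => hcy (n + 1))

/-- The inverse image of a K-flat complex with flat terms is K-flat with flat terms. -/
theorem isKFlat_pull {L : CochainComplex (ModSite.Mod O_D) ℤ} (hL : ModSite.IsKFlat L) (hfl : FlatTerms L) :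
    ModSite.IsKFlat ((pullCx f).obj L) := by
  let q := resMap (startRes L)
  have hq : QuasiIso q := quasiIso_resMap _
  have hac : (CochainComplex.mappingCone q).Acyclic := (DerCat.quasiIso_iff_acyclic_mappingCone q).1 hq
  have hcone := isKFlat_pull_of_acyclic f hac (isKFlat_mappingCone q (isKFlat_resObj _) hL)
    (flatTerms_mappingCone q (flatTerms_resObj _ (flatTerms_startRes L)) hfl)
  exact (isKFlat_cone_two_out_of_three ((pullCx f).map q)).1 (isKFlat_pull_resObj f L)
    (isKFlat_of_iso (CochainComplex.mappingCone.mapHomologicalComplexIso q f.pull) hcone)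

end GrothLib.PullLoc25
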