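import Groth.Prelude.Def_ModSite
import Mathlib.CategoryTheory.Sites.Subsheaf
import Mathlib.CategoryTheory.Sites.LeftExact
import Mathlib.CategoryTheory.Limits.Shapes.Products

/-!
# What exactness of the inverse image of sheaves of sets gives locally

For a continuous functor with exact inverse image: every object of the source is locally over an image, two maps to
images factor locally through one, and a parallel pair equalised by a map is equalised locally before applying the functor.
-/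

set_option autoImplicit false
universe u

open CategoryTheory CategoryTheory.Limits Opposite

namespace GrothLib.PullLoc25

variable {C D : Type u} [SmallCategory C] [SmallCategory D] {J : GrothendieckTopology C}
  {K : GrothendieckTopology D} (F : D ⥤ C) [F.IsContinuous K J]

/-- Sheafify, then pull back. -/
noncomputable abbrev Φ : (Dᵒᵖ ⥤ Type u) ⥤ Sheaf J (Type u) :=
  presheafToSheaf K (Type u) ⋙ F.sheafPullback (Type u) K J

/-- The comparison `P ⟶ F_* Φ P`. -/
noncomputable def ηP (P : Dᵒᵖ ⥤ Type u) : P ⟶ F.op ⋙ ((Φ (J := J) (K := K) F).obj P).obj :=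
  toSheafify K P ≫ ((F.sheafAdjunctionContinuous (Type u) K J).unit.app ((presheafToSheaf K (Type u)).obj P)).hom

/-- The pulled back section. -/
noncomputable def elt {P : Dᵒᵖ ⥤ Type u} {W : D} (x : P.obj (op W)) :
    ((Φ (J := J) (K := K) F).obj P).obj.obj (op (F.obj W)) := (ηP F P).app (op W) x

theorem elt_natural {P Q : Dᵒᵖ ⥤ Type u} (a : P ⟶ Q) {W : D} (x : P.obj (op W)) :
    ((Φ (J := J) (K := K) F).map a).hom.app _ (elt F x) = elt F (a.app (op W) x) := by
  have h : ηP (J := J) (K := K) F P ≫ Functor.whiskerLeft F.op ((Φ F).map a).hom = a ≫ ηP F Q := by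
    unfold ηP
    rw [Category.assoc, ← Category.assoc a, toSheafify_naturality K a, Category.assoc]
    exact congrArg (toSheafify K P ≫ ·)
      (congrArg (fun t => t.hom) ((F.sheafAdjunctionContinuous (Type u) K J).unit.naturality
        ((presheafToSheaf K (Type u)).map a))).symm
  exact ConcreteCategory.congr_hom (NatTrans.congr_app h (op W)) x

theorem map_elt {P : Dᵒᵖ ⥤ Type u} {W W' : D} (c : W' ⟶ W) (x : P.obj (op W)) :
    ((Φ (J := J) (K := K) F).obj P).obj.map (F.map c).op (elt F x) = elt F (P.map c.op x) :=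
  (ConcreteCategory.congr_hom ((ηP F P).naturality c.op) x).symm

/-- The sections restricted from pulled back ones. -/
def genSub (P : Dᵒᵖ ⥤ Type u) : Subfunctor ((Φ (J := J) (K := K) F).obj P).obj where
  obj V := {z | ∃ (W : D) (x : P.obj (op W)) (p : V.unop ⟶ F.obj W),
    ((Φ (J := J) (K := K) F).obj P).obj.map p.op (elt F x) = z}
  map {V V'} i := by
    rintro _ ⟨W, x, p, rfl⟩
    exact ⟨W, x, i.unop ≫ p, ConcreteCategory.congr_hom
      (((Φ (J := J) (K := K) F).obj P).obj.map_comp p.op i) (elt F x)⟩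

/-- Every section of the inverse image is locally a pulled back one. -/
theorem gen {P : Dᵒᵖ ⥤ Type u} {V : C} (z : ((Φ (J := J) (K := K) F).obj P).obj.obj (op V)) :
    ∃ S ∈ J V, ∀ ⦃V' : C⦄ (g : V' ⟶ V), S g → ∃ (W : D) (x : P.obj (op W)) (p : V' ⟶ F.obj W),
      ((Φ (J := J) (K := K) F).obj P).obj.map g.op z = ((Φ (J := J) (K := K) F).obj P).obj.map p.op (elt F x) := by
  let G := (Φ (J := J) (K := K) F).obj P
  let A := (genSub (J := J) (K := K) F P).sheafify J
  have hA : Presheaf.IsSheaf J A.toFunctor :=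
    (isSheaf_iff_isSheaf_of_type J _).2 (Subfunctor.sheafify_isSheaf _ ((isSheaf_iff_isSheaf_of_type J _).1 G.property))
  let As : Sheaf J (Type u) := ⟨A.toFunctor, hA⟩
  let ι : As ⟶ G := ⟨A.ι⟩
  let β : P ⟶ F.op ⋙ A.toFunctor :=
    { app := fun W => ↾fun x => ⟨(ηP F P).app W x,
        (genSub (J := J) (K := K) F P).le_sheafify J _ ⟨W.unop, x, 𝟙 _, by simp [G, elt]⟩⟩
      naturality := fun W W' i => by
        ext x
        apply Subtype.ext
        exact ConcreteCategory.congr_hom ((ηP (J := J) (K := K) F P).naturality i) x }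
  let adj := F.sheafAdjunctionContinuous (Type u) K J
  let β' : (presheafToSheaf K (Type u)).obj P ⟶ (F.sheafPushforwardContinuous (Type u) K J).obj As :=
    ((sheafificationAdjunction K (Type u)).homEquiv P _).symm β
  let σ : G ⟶ As := (adj.homEquiv _ _).symm β'
  have hβ : toSheafify K P ≫ β'.hom = β :=
    toSheafify_sheafifyLift K β ((F.sheafPushforwardContinuous (Type u) K J).obj As).property
  have hσ : σ ≫ ι = 𝟙 G := by
    apply (adj.homEquiv _ _).injective
    rw [Adjunction.homEquiv_naturality_right, Equiv.apply_symm_apply, adj.homEquiv_unit]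
    refine Eq.trans ?_ ((congrArg (adj.unit.app _ ≫ ·)
      ((F.sheafPushforwardContinuous (Type u) K J).map_id G)).trans (Category.comp_id _)).symm
    apply Sheaf.hom_ext
    apply sheafify_hom_ext K _ _ ((F.sheafPushforwardContinuous (Type u) K J).obj G).property
    refine ((Category.assoc _ _ _).symm.trans (congrArg (· ≫ Functor.whiskerLeft F.op A.ι) hβ)).trans ?_
    rfl
  have hz : z ∈ A.obj (op V) := by
    have e : ι.hom.app (op V) (σ.hom.app (op V) z) = z :=
      ConcreteCategory.congr_hom (NatTrans.congr_app (congrArg (fun t => t.hom) hσ) (op V)) z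
    rw [← e]
    exact (σ.hom.app (op V) z).2
  refine ⟨(genSub F P).sieveOfSection z, hz, fun V' g hg => ?_⟩
  obtain ⟨W, x, p, h⟩ := hg
  exact ⟨W, x, p, h.symm⟩

/-- The comparison of a representable with the representable of the image. -/
noncomputable def κ (W : D) :
    (Φ (J := J) (K := K) F).obj (yoneda.obj W) ⟶ (presheafToSheaf J (Type u)).obj (yoneda.obj (F.obj W)) :=
  ((F.sheafAdjunctionContinuous (Type u) K J).homEquiv _ _).symm
    (((sheafificationAdjunction K (Type u)).homEquiv (yoneda.obj W) _).symm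
      (yonedaEquiv.symm ((toSheafify J (yoneda.obj (F.obj W))).app (op (F.obj W)) (𝟙 _))))

theorem κ_elt {W W' : D} (a : W' ⟶ W) :
    (κ (J := J) (K := K) F W).hom.app (op (F.obj W')) (elt F (P := yoneda.obj W) a) =
      (toSheafify J (yoneda.obj (F.obj W))).app (op (F.obj W')) (F.map a) := by
  let adj := F.sheafAdjunctionContinuous (Type u) K J
  let y : yoneda.obj W ⟶ ((F.sheafPushforwardContinuous (Type u) K J).obj
      ((presheafToSheaf J (Type u)).obj (yoneda.obj (F.obj W)))).obj :=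
    yonedaEquiv.symm ((toSheafify J (yoneda.obj (F.obj W))).app (op (F.obj W)) (𝟙 _))
  let T := (F.sheafPushforwardContinuous (Type u) K J).obj
      ((presheafToSheaf J (Type u)).obj (yoneda.obj (F.obj W)))
  have h1 : adj.unit.app _ ≫ (F.sheafPushforwardContinuous (Type u) K J).map (κ (J := J) (K := K) F W) =
      ((sheafificationAdjunction K (Type u)).homEquiv (yoneda.obj W) T).symm y :=
    (adj.homEquiv_unit _ _ _).symm.trans (Equiv.apply_symm_apply _ _)
  have h2 : ηP (J := J) (K := K) F (yoneda.obj W) ≫ Functor.whiskerLeft F.op (κ (J := J) (K := K) F W).hom = y := by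
    unfold ηP
    rw [Category.assoc]
    exact (congrArg (toSheafify K _ ≫ ·) (congrArg (fun t => t.hom) h1)).trans
      (toSheafify_sheafifyLift K y ((F.sheafPushforwardContinuous (Type u) K J).obj _).property)
  refine (ConcreteCategory.congr_hom (NatTrans.congr_app h2 (op W')) a).trans ?_
  have h3 := ConcreteCategory.congr_hom ((toSheafify J (yoneda.obj (F.obj W))).naturality (F.map a).op) (𝟙 (F.obj W))
  exact h3.symm.trans (congrArg ((toSheafify J (yoneda.obj (F.obj W))).app (op (F.obj W'))) (Category.comp_id _))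

theorem κ_map_elt {W W' : D} (a : W' ⟶ W) {V : C} (p : V ⟶ F.obj W') :
    (κ (J := J) (K := K) F W).hom.app (op V)
        (((Φ (J := J) (K := K) F).obj _).obj.map p.op (elt F (P := yoneda.obj W) a)) =
      (toSheafify J (yoneda.obj (F.obj W))).app (op V) (p ≫ F.map a) := by
  refine (ConcreteCategory.congr_hom ((κ (J := J) (K := K) F W).hom.naturality p.op) _).trans ?_
  refine (congrArg _ (κ_elt F a)).trans ?_
  exact (ConcreteCategory.congr_hom ((toSheafify J (yoneda.obj (F.obj W))).naturality p.op) _).symm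

/-- Maps equal in the sheafified representable are locally equal. -/
theorem eq_locally {X V : C} (a b : V ⟶ X)
    (h : (toSheafify J (yoneda.obj X)).app (op V) a = (toSheafify J (yoneda.obj X)).app (op V) b) :
    ∃ S ∈ J V, ∀ ⦃V' : C⦄ (g : V' ⟶ V), S g → g ≫ a = g ≫ b := by
  have := (J.W_toSheafify (A := Type u) (yoneda.obj X)).isLocallyInjective
  exact ⟨Presheaf.equalizerSieve (F := yoneda.obj X) (X := op V) a b,
    Presheaf.equalizerSieve_mem J (toSheafify J (yoneda.obj X)) (X := op V) a b h, fun V' g hg => hg⟩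

variable (K) [PreservesFiniteLimits (F.sheafPullback (Type u) K J)]
include K

theorem preservesFiniteLimits_Φ :
    PreservesFiniteLimits (Φ (J := J) (K := K) F) :=
  comp_preservesFiniteLimits _ _

/-- Evaluation of the inverse image. -/
noncomputable abbrev evΦ (V : C) : (Dᵒᵖ ⥤ Type u) ⥤ Type u :=
  Φ (J := J) (K := K) F ⋙ sheafToPresheaf J (Type u) ⋙ (evaluation _ _).obj (op V)

theorem preservesFiniteLimits_evΦ (V : C) : PreservesFiniteLimits (evΦ (J := J) (K := K) F V) :=
  have := preservesFiniteLimits_Φ (J := J) K F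
  have := comp_preservesFiniteLimits (sheafToPresheaf J (Type u)) ((evaluation _ _).obj (op V))
  comp_preservesFiniteLimits _ _

/-- Every object is locally over an image. -/
theorem exists_over (V : C) :
    ∃ S ∈ J V, ∀ ⦃V' : C⦄ (g : V' ⟶ V), S g → ∃ W : D, Nonempty (V' ⟶ F.obj W) := by
  have := preservesFiniteLimits_evΦ (J := J) K F V
  let P : Dᵒᵖ ⥤ Type u := ⊤_ _
  let z : (evΦ (J := J) (K := K) F V).obj P :=
    (IsTerminal.isTerminalObj (evΦ (J := J) (K := K) F V) P terminalIsTerminal).from PUnit.{u+1} PUnit.unit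
  obtain ⟨S, hS, h⟩ := gen F z
  exact ⟨S, hS, fun V' g hg => by
    obtain ⟨W, -, p, -⟩ := h g hg
    exact ⟨W, ⟨p⟩⟩⟩

/-- Two maps to images factor locally through one. -/
theorem exists_pair {V : C} {W₁ W₂ : D} (p₁ : V ⟶ F.obj W₁) (p₂ : V ⟶ F.obj W₂) :
    ∃ S ∈ J V, ∀ ⦃V' : C⦄ (g : V' ⟶ V), S g → ∃ (W : D) (a₁ : W ⟶ W₁) (a₂ : W ⟶ W₂) (p : V' ⟶ F.obj W),
      p ≫ F.map a₁ = g ≫ p₁ ∧ p ≫ F.map a₂ = g ≫ p₂ := by
  have := preservesFiniteLimits_evΦ (J := J) K F V
  let z₁ := ((Φ (J := J) (K := K) F).obj _).obj.map p₁.op (elt F (P := yoneda.obj W₁) (𝟙 W₁))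
  let z₂ := ((Φ (J := J) (K := K) F).obj _).obj.map p₂.op (elt F (P := yoneda.obj W₂) (𝟙 W₂))
  let c := BinaryFan.mk (Limits.prod.fst : yoneda.obj W₁ ⨯ yoneda.obj W₂ ⟶ _) Limits.prod.snd
  have hc := mapIsLimitOfPreservesOfIsLimit (evΦ (J := J) (K := K) F V) _ _ (prodIsProd (yoneda.obj W₁) (yoneda.obj W₂))
  obtain ⟨l, hl₁, hl₂⟩ := BinaryFan.IsLimit.lift' hc (↾fun _ : PUnit.{u+1} => z₁) (↾fun _ : PUnit.{u+1} => z₂)
  obtain ⟨S, hS, h⟩ := gen F (l PUnit.unit)
  refine ⟨_, J.transitive hS (Sieve.bind S.arrows fun V' g hg =>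
    { arrows := fun V'' e => ∃ (W : D) (a₁ : W ⟶ W₁) (a₂ : W ⟶ W₂) (p : V'' ⟶ F.obj W),
        p ≫ F.map a₁ = (e ≫ g) ≫ p₁ ∧ p ≫ F.map a₂ = (e ≫ g) ≫ p₂
      downward_closed := fun {Y Z e} ⟨W, a₁, a₂, p, h₁, h₂⟩ k =>
        ⟨W, a₁, a₂, k ≫ p, by rw [Category.assoc, h₁]; simp, by rw [Category.assoc, h₂]; simp⟩ }) ?_, ?_⟩
  · intro V' g hg
    obtain ⟨W, x, p, hx⟩ := h g hg
    let a₁ : W ⟶ W₁ := (Limits.prod.fst : yoneda.obj W₁ ⨯ yoneda.obj W₂ ⟶ _).app (op W) x
    let a₂ : W ⟶ W₂ := (Limits.prod.snd : yoneda.obj W₁ ⨯ yoneda.obj W₂ ⟶ _).app (op W) x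
    have key : ∀ {W₀ : D} (π : yoneda.obj W₁ ⨯ yoneda.obj W₂ ⟶ yoneda.obj W₀) (p₀ : V ⟶ F.obj W₀),
        (evΦ (J := J) (K := K) F V).map π (l PUnit.unit) =
          ((Φ (J := J) (K := K) F).obj _).obj.map p₀.op (elt F (P := yoneda.obj W₀) (𝟙 W₀)) →
        (toSheafify J (yoneda.obj (F.obj W₀))).app (op V') (p ≫ F.map (π.app (op W) x)) =
          (toSheafify J (yoneda.obj (F.obj W₀))).app (op V') (g ≫ p₀) := by
      intro W₀ π p₀ hπ
      have e1 : ((Φ (J := J) (K := K) F).obj (yoneda.obj W₀)).obj.map p.op (elt F (P := yoneda.obj W₀) (π.app (op W) x)) =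
          ((Φ (J := J) (K := K) F).obj (yoneda.obj W₀)).obj.map (g ≫ p₀).op (elt F (P := yoneda.obj W₀) (𝟙 W₀)) := by
        have hp := ConcreteCategory.congr_hom (((Φ (J := J) (K := K) F).map π).hom.naturality p.op) (elt F x)
        have hg' := ConcreteCategory.congr_hom (((Φ (J := J) (K := K) F).map π).hom.naturality g.op) (l PUnit.unit)
        refine (congrArg _ (elt_natural F π x)).symm.trans (hp.symm.trans ?_)
        refine (congrArg _ hx.symm).trans (hg'.trans ?_)
        refine (congrArg _ hπ).trans ?_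
        exact (ConcreteCategory.congr_hom (((Φ (J := J) (K := K) F).obj _).obj.map_comp p₀.op g.op) _).symm
      have e2 := congrArg ((κ (J := J) (K := K) F W₀).hom.app (op V')) e1
      rw [κ_map_elt, κ_map_elt] at e2
      rwa [CategoryTheory.Functor.map_id, Category.comp_id] at e2
    obtain ⟨S₁, hS₁, h₁⟩ := eq_locally _ _ (key Limits.prod.fst p₁ (ConcreteCategory.congr_hom hl₁ PUnit.unit))
    obtain ⟨S₂, hS₂, h₂⟩ := eq_locally _ _ (key Limits.prod.snd p₂ (ConcreteCategory.congr_hom hl₂ PUnit.unit))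
    refine J.superset_covering (fun V'' e he => ?_) (J.intersection_covering hS₁ hS₂)
    exact ⟨V', e, g, hg, ⟨W, a₁, a₂, e ≫ p, by rw [Category.assoc, h₁ e he.1, Category.assoc],
      by rw [Category.assoc, h₂ e he.2, Category.assoc]⟩, rfl⟩
  · rintro V' g ⟨Y, e, k, hk, hW, rfl⟩
    exact hW

/-- A parallel pair equalised over an image is equalised locally. -/
theorem exists_equalize {V : C} {W U : D} (a b : W ⟶ U) (p : V ⟶ F.obj W) (hab : p ≫ F.map a = p ≫ F.map b) :
    ∃ S ∈ J V, ∀ ⦃V' : C⦄ (g : V' ⟶ V), S g → ∃ (W' : D) (c : W' ⟶ W) (p' : V' ⟶ F.obj W'),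
      c ≫ a = c ≫ b ∧ p' ≫ F.map c = g ≫ p := by
  have := preservesFiniteLimits_evΦ (J := J) K F V
  let G := (Φ (J := J) (K := K) F).obj (yoneda.obj W)
  let z := G.obj.map p.op (elt F (P := yoneda.obj W) (𝟙 W))
  have hz : ∀ c : W ⟶ U, (evΦ (J := J) (K := K) F V).map (yoneda.map c) z =
      ((Φ (J := J) (K := K) F).obj _).obj.map (p ≫ F.map c).op (elt F (P := yoneda.obj U) (𝟙 U)) := by
    intro c
    refine (ConcreteCategory.congr_hom (((Φ (J := J) (K := K) F).map (yoneda.map c)).hom.naturality p.op) _).trans ?_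
    refine (congrArg _ (elt_natural F (yoneda.map c) (𝟙 W))).trans ?_
    have e : (yoneda.map c).app (op W) (𝟙 W) = (yoneda.obj U).map c.op (𝟙 U) :=
      (Category.id_comp c).trans (Category.comp_id c).symm
    rw [e, ← map_elt]
    exact (ConcreteCategory.congr_hom (((Φ (J := J) (K := K) F).obj _).obj.map_comp (F.map c).op p.op) _).symm
  have hfork := isLimitForkMapOfIsLimit (evΦ (J := J) (K := K) F V) (equalizer.condition (yoneda.map a) (yoneda.map b))
    (equalizerIsEqualizer _ _)
  obtain ⟨l, hl⟩ := Fork.IsLimit.lift' hfork (↾fun _ : PUnit.{u+1} => z) (by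
    ext x
    exact (hz a).trans ((congrArg (fun q : V ⟶ F.obj U => ((Φ (J := J) (K := K) F).obj (yoneda.obj U)).obj.map q.op
      (elt F (P := yoneda.obj U) (𝟙 U))) hab).trans (hz b).symm))
  obtain ⟨S, hS, h⟩ := gen F (l PUnit.unit)
  refine ⟨_, J.transitive hS (Sieve.bind S.arrows fun V' g hg =>
    { arrows := fun V'' e => ∃ (W' : D) (c : W' ⟶ W) (p' : V'' ⟶ F.obj W'),
        c ≫ a = c ≫ b ∧ p' ≫ F.map c = (e ≫ g) ≫ p
      downward_closed := fun {Y Z e} ⟨W', c, p', h₁, h₂⟩ k =>
        ⟨W', c, k ≫ p', h₁, by rw [Category.assoc, h₂]; simp⟩ }) ?_, ?_⟩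
  · intro V' g hg
    obtain ⟨W', x, p', hx⟩ := h g hg
    let ι := equalizer.ι (yoneda.map a) (yoneda.map b)
    let c : W' ⟶ W := ι.app (op W') x
    have hc : c ≫ a = c ≫ b := ConcreteCategory.congr_hom
      (NatTrans.congr_app (equalizer.condition (yoneda.map a) (yoneda.map b)) (op W')) x
    have e1 : G.obj.map p'.op (elt F (P := yoneda.obj W) c) =
        G.obj.map (g ≫ p).op (elt F (P := yoneda.obj W) (𝟙 W)) := by
      refine (congrArg _ (elt_natural F ι x)).symm.trans ?_
      refine (ConcreteCategory.congr_hom (((Φ (J := J) (K := K) F).map ι).hom.naturality p'.op) _).symm.trans ?_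
      refine (congrArg _ hx.symm).trans ?_
      refine (ConcreteCategory.congr_hom (((Φ (J := J) (K := K) F).map ι).hom.naturality g.op) _).trans ?_
      refine (congrArg _ (ConcreteCategory.congr_hom hl PUnit.unit)).trans ?_
      exact (ConcreteCategory.congr_hom (G.obj.map_comp p.op g.op) _).symm
    have e2 := congrArg ((κ (J := J) (K := K) F W).hom.app (op V')) e1
    rw [κ_map_elt, κ_map_elt, CategoryTheory.Functor.map_id, Category.comp_id] at e2
    obtain ⟨S₁, hS₁, h₁⟩ := eq_locally _ _ e2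
    refine J.superset_covering (fun V'' e he => ?_) hS₁
    exact ⟨V', e, g, hg, ⟨W', c, e ≫ p', hc, by rw [Category.assoc, h₁ e he, Category.assoc]⟩, rfl⟩
  · rintro V' g ⟨Y, e, k, hk, hW, rfl⟩
    exact hW

omit [PreservesFiniteLimits (F.sheafPullback (Type u) K J)] in
/-- Coverings are transported locally. -/
theorem exists_cover {V : C} {W : D} (p : V ⟶ F.obj W) {R : Sieve W} (hR : R ∈ K W) :
    ∃ S ∈ J V, ∀ ⦃V' : C⦄ (g : V' ⟶ V), S g → ∃ (W' : D) (c : W' ⟶ W) (p' : V' ⟶ F.obj W'),
      R c ∧ p' ≫ F.map c = g ≫ p := by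
  have hW : K.W (A := Type u) R.functorInclusion := fun Z hZ => (Function.bijective_iff_existsUnique _).2
    (Presieve.isSheafFor_iff_yonedaSheafCondition.1 ((isSheaf_iff_isSheaf_of_type K Z).1 hZ R hR))
  have : IsIso ((presheafToSheaf K (Type u)).map R.functorInclusion) := (K.W_iff _).1 hW
  have : IsIso ((Φ (J := J) (K := K) F).map R.functorInclusion) :=
    inferInstanceAs (IsIso ((F.sheafPullback (Type u) K J).map ((presheafToSheaf K (Type u)).map R.functorInclusion)))
  let G := (Φ (J := J) (K := K) F).obj (yoneda.obj W)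
  let z := G.obj.map p.op (elt F (P := yoneda.obj W) (𝟙 W))
  obtain ⟨S, hS, h⟩ := gen F ((inv ((Φ (J := J) (K := K) F).map R.functorInclusion)).hom.app (op V) z)
  refine ⟨_, J.transitive hS (Sieve.bind S.arrows fun V' g hg =>
    { arrows := fun V'' e => ∃ (W' : D) (c : W' ⟶ W) (p' : V'' ⟶ F.obj W'),
        R c ∧ p' ≫ F.map c = (e ≫ g) ≫ p
      downward_closed := fun {Y Z e} ⟨W', c, p', h₁, h₂⟩ k =>
        ⟨W', c, k ≫ p', h₁, by rw [Category.assoc, h₂]; simp⟩ }) ?_, ?_⟩
  · intro V' g hg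
    obtain ⟨W', x, p', hx⟩ := h g hg
    let ι := R.functorInclusion
    have e1 : G.obj.map p'.op (elt F (P := yoneda.obj W) x.1) =
        G.obj.map (g ≫ p).op (elt F (P := yoneda.obj W) (𝟙 W)) := by
      refine (congrArg _ (elt_natural F ι x)).symm.trans ?_
      refine (ConcreteCategory.congr_hom (((Φ (J := J) (K := K) F).map ι).hom.naturality p'.op) _).symm.trans ?_
      refine (congrArg _ hx.symm).trans ?_
      refine (ConcreteCategory.congr_hom (((Φ (J := J) (K := K) F).map ι).hom.naturality g.op) _).trans ?_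
      refine (congrArg _ (ConcreteCategory.congr_hom (NatTrans.congr_app (congrArg (fun t => t.hom)
        (IsIso.inv_hom_id ((Φ (J := J) (K := K) F).map ι))) (op V)) z)).trans ?_
      exact (ConcreteCategory.congr_hom (G.obj.map_comp p.op g.op) _).symm
    have e2 := congrArg ((κ (J := J) (K := K) F W).hom.app (op V')) e1
    rw [κ_map_elt, κ_map_elt, CategoryTheory.Functor.map_id, Category.comp_id] at e2
    obtain ⟨S₁, hS₁, h₁⟩ := eq_locally _ _ e2
    refine J.superset_covering (fun V'' e he => ?_) hS₁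
    exact ⟨V', e, g, hg, ⟨W', x.1, e ≫ p', x.2, by rw [Category.assoc, h₁ e he, Category.assoc]⟩, rfl⟩
  · rintro V' g ⟨Y, e, k, hk, hW, rfl⟩
    exact hW

end GrothLib.PullLoc25
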