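import Groth.Agent.Lib.PullLoc25.Merge
import Groth.Agent.Lib.PullLoc25.Model

/-!
# The product of pulled back sections

For modules `M`, `N` on the target of a morphism of ringed sites: the comparison
`f^*(M ⊗ N) ⟶ f^*M ⊗ f^*N`, and the value in `f^*(M ⊗ N)` of a pair of generators of `f^*M` and `f^*N`.
-/

set_option autoImplicit false
universe u

open CategoryTheory CategoryTheory.Limits Opposite MonoidalCategory GrothLib.SheafCoh

namespace GrothLib.PullLoc25

section Tm

variable {C : Type u} [SmallCategory C] {J : GrothendieckTopology C} {O : Sheaf J CommRingCat.{u}}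
  (A B : ModSite.Mod O)

/-- Sections equal on a covering sieve are equal. -/
theorem eq_of_locally {V : C} {S : Sieve V} (hS : S ∈ J V) {a b : ModSite.sect A V}
    (h : ∀ ⦃V' : C⦄ (g : V' ⟶ V), S g → FlatRel25.res A g a = FlatRel25.res A g b) : a = b := by
  have hA : Presheaf.IsSheaf J (A.val.presheaf ⋙ forget AddCommGrpCat.{u}) :=
    ((sheafCompose J (forget AddCommGrpCat.{u})).obj ⟨A.val.presheaf, A.isSheaf⟩).property
  exact (((isSheaf_iff_isSheaf_of_type _ _).1 hA).isSeparated S hS).ext fun V' g hg => h g hg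

/-- A section as a section of the underlying presheaf. -/
abbrev ps {U : C} (a : ModSite.sect A U) : ((forgetP O).obj A).obj (op U) := a

/-- The product of two sections in the sheafified tensor product. -/
noncomputable def tm {U : C} (a : ModSite.sect A U) (b : ModSite.sect B U) :
    ModSite.sect (((ModSite.tensorBi O).obj A).obj B) U :=
  ((shfAdj O).unit.app ((forgetP O).obj A ⊗ (forgetP O).obj B)).app (op U)
    (ps A a ⊗ₜ[O.obj.obj (op U)] ps B b)

variable {A B} in
theorem tm_add_left {U : C} (a a' : ModSite.sect A U) (b : ModSite.sect B U) :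
    tm A B (a + a') b = tm A B a b + tm A B a' b :=
  (congrArg _ (TensorProduct.add_tmul (R := O.obj.obj (op U)) (ps A a) (ps A a') (ps B b))).trans (map_add _ _ _)

variable {A B} in
theorem tm_add_right {U : C} (a : ModSite.sect A U) (b b' : ModSite.sect B U) :
    tm A B a (b + b') = tm A B a b + tm A B a b' :=
  (congrArg _ (TensorProduct.tmul_add (R := O.obj.obj (op U)) (ps A a) (ps B b) (ps B b'))).trans (map_add _ _ _)

variable {A B} in
theorem tm_smul_left {U : C} (r : O.obj.obj (op U)) (a : ModSite.sect A U) (b : ModSite.sect B U) :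
    tm A B (r • a) b = r • tm A B a b :=
  (congrArg _ (TensorProduct.smul_tmul' (R := O.obj.obj (op U)) r (ps A a) (ps B b)).symm).trans (map_smul _ _ _)

variable {A B} in
theorem tm_smul_right {U : C} (r : O.obj.obj (op U)) (a : ModSite.sect A U) (b : ModSite.sect B U) :
    tm A B a (r • b) = r • tm A B a b :=
  (congrArg _ (TensorProduct.tmul_smul (R := O.obj.obj (op U)) r (ps A a) (ps B b))).trans (map_smul _ _ _)

theorem res_tm {U V : C} (g : V ⟶ U) (a : ModSite.sect A U) (b : ModSite.sect B U) :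
    FlatRel25.res (((ModSite.tensorBi O).obj A).obj B) g (tm A B a b) =
      tm A B (FlatRel25.res A g a) (FlatRel25.res B g b) :=
  (PresheafOfModules.naturality_apply
    ((shfAdj O).unit.app ((forgetP O).obj A ⊗ (forgetP O).obj B)) g.op _).symm

theorem tm_map {A' B' : ModSite.Mod O} (α : A ⟶ A') (β : B ⟶ B') {U : C} (a : ModSite.sect A U)
    (b : ModSite.sect B U) :
    ((shf O).map ((forgetP O).map α ⊗ₘ (forgetP O).map β)).val.app (op U) (tm A B a b) =
      tm A' B' (α.val.app (op U) a) (β.val.app (op U) b) :=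
  (congrArg (fun k : (forgetP O).obj A ⊗ (forgetP O).obj B ⟶ _ =>
    k.app (op U) (ps A a ⊗ₜ[O.obj.obj (op U)] ps B b))
    ((shfAdj O).unit.naturality ((forgetP O).map α ⊗ₘ (forgetP O).map β))).symm

end Tm

variable {C D : Type u} [SmallCategory C] [SmallCategory D] {J : GrothendieckTopology C}
  {K : GrothendieckTopology D} {O_C : Sheaf J CommRingCat.{u}} {O_D : Sheaf K CommRingCat.{u}}
  (f : ModSite.RMor O_C O_D) (M N : ModSite.Mod O_D)

/-- `f^*(M ⊗ N)`. -/
noncomputable abbrev pullTen : ModSite.Mod O_C := f.pull.obj (((ModSite.tensorBi O_D).obj M).obj N)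

/-- `f^*M ⊗ f^*N`. -/
noncomputable abbrev tenPull : ModSite.Mod O_C :=
  ((ModSite.tensorBi O_C).obj (f.pull.obj M)).obj (f.pull.obj N)

/-- The product of two pulled back sections, as a section of the direct image. -/
noncomputable def pp {U : D} (m : ModSite.sect M U) (n : ModSite.sect N U) :
    ModSite.sect (f.push.obj (tenPull f M N)) U :=
  tm (f.pull.obj M) (f.pull.obj N) (pullSec f M m) (pullSec f N n)

theorem pp_add_left {U : D} (m m' : ModSite.sect M U) (n : ModSite.sect N U) :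
    pp f M N (m + m') n = pp f M N m n + pp f M N m' n :=
  (congrArg (fun z => tm (f.pull.obj M) (f.pull.obj N) z (pullSec f N n))
    (map_add ((f.adj.unit.app M).val.app (op U)).hom m m')).trans (tm_add_left _ _ _)

theorem pp_add_right {U : D} (m : ModSite.sect M U) (n n' : ModSite.sect N U) :
    pp f M N m (n + n') = pp f M N m n + pp f M N m n' :=
  (congrArg (tm (f.pull.obj M) (f.pull.obj N) (pullSec f M m))
    (map_add ((f.adj.unit.app N).val.app (op U)).hom n n')).trans (tm_add_right _ _ _)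

theorem pp_smul_left {U : D} (r : O_D.obj.obj (op U)) (m : ModSite.sect M U) (n : ModSite.sect N U) :
    pp f M N (r • m) n = r • pp f M N m n := by
  refine (congrArg (fun z => tm (f.pull.obj M) (f.pull.obj N) z (pullSec f N n)) (pullSec_smul f M r m)).trans ?_
  exact tm_smul_left (A := f.pull.obj M) (B := f.pull.obj N) (sh f U r) _ _

theorem pp_smul_right {U : D} (r : O_D.obj.obj (op U)) (m : ModSite.sect M U) (n : ModSite.sect N U) :
    pp f M N m (r • n) = r • pp f M N m n := by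
  refine (congrArg (tm (f.pull.obj M) (f.pull.obj N) (pullSec f M m)) (pullSec_smul f N r n)).trans ?_
  exact tm_smul_right (A := f.pull.obj M) (B := f.pull.obj N) (sh f U r) _ _

/-- Products of pulled back sections, as a map of presheaves. -/
noncomputable def cmpPre :
    (forgetP O_D).obj M ⊗ (forgetP O_D).obj N ⟶ (forgetP O_D).obj (f.push.obj (tenPull f M N)) where
  app U := ModuleCat.MonoidalCategory.tensorLift
    (fun m n => pp f M N (U := U.unop) m n)
    (fun m m' n => pp_add_left f M N (U := U.unop) m m' n) (fun r m n => pp_smul_left f M N (U := U.unop) r m n)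
    (fun m n n' => pp_add_right f M N (U := U.unop) m n n') (fun r m n => pp_smul_right f M N (U := U.unop) r m n)
  naturality {U V} i := ModuleCat.MonoidalCategory.tensor_ext fun m n => by
    refine (congrArg₂ (tm (f.pull.obj M) (f.pull.obj N)) (pullSec_natural f M i.unop m)
      (pullSec_natural f N i.unop n)).trans ?_
    exact (res_tm _ _ (f.fn.map i.unop) _ _).symm

/-- The comparison `f^*(M ⊗ N) ⟶ f^*M ⊗ f^*N`. -/
noncomputable def phi : pullTen f M N ⟶ tenPull f M N :=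
  (f.adj.homEquiv _ _).symm (((shfAdj O_D).homEquiv _ _).symm (cmpPre f M N))

theorem phi_pullSec {U : D} (m : ModSite.sect M U) (n : ModSite.sect N U) :
    (phi f M N).val.app (op (f.fn.obj U)) (pullSec f _ (tm M N m n)) =
      tm (f.pull.obj M) (f.pull.obj N) (pullSec f M m) (pullSec f N n) := by
  have h1 : f.adj.unit.app _ ≫ f.push.map (phi f M N) = ((shfAdj O_D).homEquiv _ _).symm (cmpPre f M N) :=
    (f.adj.homEquiv_unit _ _ _).symm.trans (Equiv.apply_symm_apply _ _)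
  have h2 : (shfAdj O_D).unit.app _ ≫ (forgetP O_D).map (((shfAdj O_D).homEquiv _ _).symm (cmpPre f M N)) =
      cmpPre f M N :=
    ((shfAdj O_D).homEquiv_unit _ _ _).symm.trans (Equiv.apply_symm_apply _ _)
  exact (congrArg (fun k => k.val.app (op U) (tm M N m n)) h1).trans
    (congrArg (fun k : (forgetP O_D).obj M ⊗ (forgetP O_D).obj N ⟶ _ =>
      k.app (op U) (ps M m ⊗ₜ[O_D.obj.obj (op U)] ps N n)) h2)

/-- A product computed above a common object. -/
noncomputable def cand {U U' W : D} {V : C} (m : ModSite.sect M U) (n : ModSite.sect N U') (q : V ⟶ f.fn.obj W)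
    (a : W ⟶ U) (b : W ⟶ U') : ModSite.sect (pullTen f M N) V :=
  FlatRel25.res (pullTen f M N) q (pullSec f _ (tm M N (FlatRel25.res M a m) (FlatRel25.res N b n)))

theorem res_cand {U U' W : D} {V V' : C} (g : V' ⟶ V) (m : ModSite.sect M U) (n : ModSite.sect N U')
    (q : V ⟶ f.fn.obj W) (a : W ⟶ U) (b : W ⟶ U') :
    FlatRel25.res (pullTen f M N) g (cand f M N m n q a b) = cand f M N m n (g ≫ q) a b :=
  FlatRel25.res_res _ q g _

theorem cand_comp {U U' W W' : D} {V : C} (m : ModSite.sect M U) (n : ModSite.sect N U')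
    (q : V ⟶ f.fn.obj W') (c : W' ⟶ W) (a : W ⟶ U) (b : W ⟶ U') :
    cand f M N m n q (c ≫ a) (c ≫ b) = cand f M N m n (q ≫ f.fn.map c) a b := by
  refine Eq.trans ?_ (FlatRel25.res_res _ (f.fn.map c) q _)
  refine congrArg (FlatRel25.res (pullTen f M N) q) ?_
  refine Eq.trans ?_ (pullSec_natural f _ c _)
  refine congrArg (pullSec f _) ?_
  refine Eq.trans ?_ (res_tm _ _ c _ _).symm
  exact congrArg₂ (tm M N) (FlatRel25.res_res _ a c m).symm (FlatRel25.res_res _ b c n).symm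

theorem cand_unique {U U' W₁ W₂ : D} {V : C} (m : ModSite.sect M U) (n : ModSite.sect N U')
    (q₁ : V ⟶ f.fn.obj W₁) (q₂ : V ⟶ f.fn.obj W₂) (a₁ : W₁ ⟶ U) (b₁ : W₁ ⟶ U') (a₂ : W₂ ⟶ U) (b₂ : W₂ ⟶ U')
    (ha : q₁ ≫ f.fn.map a₁ = q₂ ≫ f.fn.map a₂) (hb : q₁ ≫ f.fn.map b₁ = q₂ ≫ f.fn.map b₂) :
    cand f M N m n q₁ a₁ b₁ = cand f M N m n q₂ a₂ b₂ := by
  obtain ⟨S, hS, h⟩ := exists_pair (J := J) K f.fn q₁ q₂
  refine eq_of_locally _ hS fun V₁ g₁ hg₁ => ?_
  obtain ⟨W, c₁, c₂, q, e₁, e₂⟩ := h g₁ hg₁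
  rw [res_cand, res_cand, ← e₁, ← e₂, ← cand_comp, ← cand_comp]
  obtain ⟨T, hT, hT'⟩ := exists_equalize (J := J) K f.fn (c₁ ≫ a₁) (c₂ ≫ a₂) q (by
    rw [f.fn.map_comp, f.fn.map_comp, reassoc_of% e₁, reassoc_of% e₂, ha])
  refine eq_of_locally _ hT fun V₂ g₂ hg₂ => ?_
  obtain ⟨W', c, q', ec, eq'⟩ := hT' g₂ hg₂
  rw [res_cand, res_cand, ← eq', ← cand_comp, ← cand_comp]
  obtain ⟨T₂, hT₂, hT₂'⟩ := exists_equalize (J := J) K f.fn (c ≫ c₁ ≫ b₁) (c ≫ c₂ ≫ b₂) q' (by
    rw [f.fn.map_comp, f.fn.map_comp, f.fn.map_comp, f.fn.map_comp, reassoc_of% eq', reassoc_of% eq',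
      reassoc_of% e₁, reassoc_of% e₂, hb])
  refine eq_of_locally _ hT₂ fun V₃ g₃ hg₃ => ?_
  obtain ⟨W'', c', q'', ec', eq''⟩ := hT₂' g₃ hg₃
  rw [res_cand, res_cand, ← eq'', ← cand_comp, ← cand_comp, ec, ec']

/-- `z` is the product of two generators. -/
def IsVal {V : C} (x : Σ i : Idx M, V ⟶ f.fn.obj i.1) (y : Σ i : Idx N, V ⟶ f.fn.obj i.1)
    (z : ModSite.sect (pullTen f M N) V) : Prop :=
  ∀ ⦃V' : C⦄ (g : V' ⟶ V) (W : D) (q : V' ⟶ f.fn.obj W) (a : W ⟶ x.1.1) (b : W ⟶ y.1.1),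
    q ≫ f.fn.map a = g ≫ x.2 → q ≫ f.fn.map b = g ≫ y.2 →
      FlatRel25.res (pullTen f M N) g z = cand f M N x.1.2 y.1.2 q a b

theorem exists_val {V : C} (x : Σ i : Idx M, V ⟶ f.fn.obj i.1) (y : Σ i : Idx N, V ⟶ f.fn.obj i.1) :
    ∃ z, IsVal f M N x y z := by
  classical
  let R : Sieve V :=
    { arrows := fun V' g => ∃ (W : D) (a : W ⟶ x.1.1) (b : W ⟶ y.1.1) (q : V' ⟶ f.fn.obj W),
        q ≫ f.fn.map a = g ≫ x.2 ∧ q ≫ f.fn.map b = g ≫ y.2
      downward_closed := fun {Y Z g} ⟨W, a, b, q, h₁, h₂⟩ k =>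
        ⟨W, a, b, k ≫ q, by rw [Category.assoc, h₁, Category.assoc], by rw [Category.assoc, h₂, Category.assoc]⟩ }
  have hR : R ∈ J V := by
    obtain ⟨S, hS, h⟩ := exists_pair (J := J) K f.fn x.2 y.2
    exact J.superset_covering (fun V' g hg => h g hg) hS
  let P := pullTen f M N
  let fam : Presieve.FamilyOfElements (P.val.presheaf ⋙ forget AddCommGrpCat.{u}) R.arrows := fun V' g hg =>
    cand f M N x.1.2 y.1.2 hg.choose_spec.choose_spec.choose_spec.choose hg.choose_spec.choose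
      hg.choose_spec.choose_spec.choose
  have hfam : ∀ {V' : C} (g : V' ⟶ V) (hg : R g) {V'' : C} (k : V'' ⟶ V') (W : D) (q : V'' ⟶ f.fn.obj W)
      (a : W ⟶ x.1.1) (b : W ⟶ y.1.1), q ≫ f.fn.map a = (k ≫ g) ≫ x.2 → q ≫ f.fn.map b = (k ≫ g) ≫ y.2 →
      FlatRel25.res P k (fam g hg) = cand f M N x.1.2 y.1.2 q a b := by
    intro V' g hg V'' k W q a b h₁ h₂
    obtain ⟨e₁, e₂⟩ := hg.choose_spec.choose_spec.choose_spec.choose_spec
    refine (res_cand f M N k _ _ _ _ _).trans (cand_unique f M N _ _ _ _ _ _ _ _ ?_ ?_)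
    · rw [h₁, Category.assoc, e₁, Category.assoc]
    · rw [h₂, Category.assoc, e₂, Category.assoc]
  have hcompat : fam.Compatible := by
    intro Y₁ Y₂ Z g₁ g₂ k₁ k₂ h₁ h₂ hk
    obtain ⟨W, a, b, q, e₁, e₂⟩ := R.downward_closed h₂ g₂
    exact (hfam k₁ h₁ g₁ W q a b (by rw [hk]; exact e₁) (by rw [hk]; exact e₂)).trans
      (hfam k₂ h₂ g₂ W q a b e₁ e₂).symm
  have hP : Presheaf.IsSheaf J (P.val.presheaf ⋙ forget AddCommGrpCat.{u}) :=
    ((sheafCompose J (forget AddCommGrpCat.{u})).obj ⟨P.val.presheaf, P.isSheaf⟩).property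
  have hsh : Presieve.IsSheafFor (P.val.presheaf ⋙ forget AddCommGrpCat.{u}) R.arrows :=
    (isSheaf_iff_isSheaf_of_type _ _).1 hP R hR
  refine ⟨hsh.amalgamate fam hcompat, fun V' g W q a b h₁ h₂ => ?_⟩
  have hg : R g := ⟨W, a, b, q, h₁, h₂⟩
  refine (hsh.valid_glue hcompat g hg).trans ?_
  have h0 := hfam g hg (𝟙 V') W q a b (by rw [Category.id_comp]; exact h₁) (by rw [Category.id_comp]; exact h₂)
  exact (res_id P _).symm.trans h0

/-- The product of two generators. -/
noncomputable def val {V : C} (x : Σ i : Idx M, V ⟶ f.fn.obj i.1) (y : Σ i : Idx N, V ⟶ f.fn.obj i.1) :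
    ModSite.sect (pullTen f M N) V :=
  (exists_val f M N x y).choose

theorem val_spec {V : C} (x : Σ i : Idx M, V ⟶ f.fn.obj i.1) (y : Σ i : Idx N, V ⟶ f.fn.obj i.1) :
    IsVal f M N x y (val f M N x y) :=
  (exists_val f M N x y).choose_spec

theorem val_res {V V' : C} (g : V' ⟶ V) (x : Σ i : Idx M, V ⟶ f.fn.obj i.1) (y : Σ i : Idx N, V ⟶ f.fn.obj i.1) :
    FlatRel25.res (pullTen f M N) g (val f M N x y) = val f M N ⟨x.1, g ≫ x.2⟩ ⟨y.1, g ≫ y.2⟩ := by
  obtain ⟨S, hS, h⟩ := exists_pair (J := J) K f.fn (g ≫ x.2) (g ≫ y.2)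
  refine eq_of_locally _ hS fun V'' k hk => ?_
  obtain ⟨W, a, b, q, e₁, e₂⟩ := h k hk
  rw [FlatRel25.res_res, val_spec f M N _ _ k W q a b e₁ e₂]
  exact val_spec f M N x y (k ≫ g) W q a b (by rw [Category.assoc]; exact e₁) (by rw [Category.assoc]; exact e₂)

theorem val_pullSec {U : D} (m : ModSite.sect M U) (n : ModSite.sect N U) :
    val f M N (V := f.fn.obj U) ⟨⟨U, m⟩, 𝟙 _⟩ ⟨⟨U, n⟩, 𝟙 _⟩ = pullSec f _ (tm M N m n) := by
  refine (res_id _ _).symm.trans ((val_spec f M N _ _ (𝟙 _) U (𝟙 _) (𝟙 U) (𝟙 U) (by simp) (by simp)).trans ?_)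
  refine (res_id _ _).trans ?_
  exact congrArg₂ (fun a b => pullSec f _ (tm M N a b)) (res_id M m) (res_id N n)

end GrothLib.PullLoc25
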