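import Groth.Agent.Lib.PullLoc25.Pairing
import Mathlib.Algebra.Category.ModuleCat.Sheaf.PullbackFree

/-!
# The inverse image of the structure sheaf
-/

set_option autoImplicit false
universe u

open CategoryTheory CategoryTheory.Limits Opposite GrothLib.SheafCoh

namespace GrothLib.PullLoc25

variable {C D : Type u} [SmallCategory C] [SmallCategory D] {J : GrothendieckTopology C}
  {K : GrothendieckTopology D} {O_C : Sheaf J CommRingCat.{u}} {O_D : Sheaf K CommRingCat.{u}}
  (f : ModSite.RMor O_C O_D)

/-- Sections over the whole site are sections over the images. -/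
theorem bijective_pushforwardSections (P : ModSite.Mod O_C) :
    Function.Bijective (SheafOfModules.pushforwardSections f.sharpR (M := P)) := by
  refine ⟨fun s t hst => Subtype.ext (funext fun V => ?_), fun t => ?_⟩
  · obtain ⟨V⟩ := V
    obtain ⟨S, hS, h⟩ := exists_over (J := J) K f.fn V
    refine eq_of_locally P hS fun V' g hg => ?_
    obtain ⟨W, ⟨p⟩⟩ := h g hg
    refine (s.property g.op).trans ((s.property p.op).symm.trans (Eq.trans ?_ ((t.property p.op).trans (t.property g.op).symm)))
    exact congrArg (P.val.map p.op) (congrArg (fun u => u.val (op W)) hst)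
  · let τ : ∀ W : D, ModSite.sect P (f.fn.obj W) := fun W => t.val (op W)
    have hτ : ∀ {W W' : D} (a : W' ⟶ W), FlatRel25.res P (f.fn.map a) (τ W) = τ W' := fun a => t.property a.op
    have key : ∀ {V : C} {W W' : D} (p : V ⟶ f.fn.obj W) (p' : V ⟶ f.fn.obj W'),
        FlatRel25.res P p (τ W) = FlatRel25.res P p' (τ W') := by
      intro V W W' p p'
      obtain ⟨S, hS, h⟩ := exists_pair (J := J) K f.fn p p'
      refine eq_of_locally P hS fun V' g hg => ?_
      obtain ⟨W'', a, a', q, e, e'⟩ := h g hg
      rw [FlatRel25.res_res, FlatRel25.res_res, ← e, ← e', ← FlatRel25.res_res, ← FlatRel25.res_res, hτ, hτ]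
    have hex : ∀ V : C, ∃ s : ModSite.sect P V,
        ∀ ⦃V' : C⦄ (g : V' ⟶ V) (W : D) (p : V' ⟶ f.fn.obj W), FlatRel25.res P g s = FlatRel25.res P p (τ W) := by
      intro V
      let R : Sieve V :=
        { arrows := fun V' _ => ∃ W : D, Nonempty (V' ⟶ f.fn.obj W)
          downward_closed := fun {Y Z g} ⟨W, ⟨p⟩⟩ k => ⟨W, ⟨k ≫ p⟩⟩ }
      have hR : R ∈ J V := by
        obtain ⟨S, hS, h⟩ := exists_over (J := J) K f.fn V
        exact J.superset_covering (fun V' g hg => h g hg) hS
      let fam : Presieve.FamilyOfElements (P.val.presheaf ⋙ forget AddCommGrpCat.{u}) R.arrows := fun V' g hg =>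
        FlatRel25.res P hg.choose_spec.some (τ hg.choose)
      have hfam : fam.Compatible := fun Y₁ Y₂ Z g₁ g₂ k₁ k₂ h₁ h₂ _ =>
        (FlatRel25.res_res P _ g₁ _).trans ((key _ _).trans (FlatRel25.res_res P _ g₂ _).symm)
      have hP : Presheaf.IsSheaf J (P.val.presheaf ⋙ forget AddCommGrpCat.{u}) :=
        ((sheafCompose J (forget AddCommGrpCat.{u})).obj ⟨P.val.presheaf, P.isSheaf⟩).property
      have hsh : Presieve.IsSheafFor (P.val.presheaf ⋙ forget AddCommGrpCat.{u}) R.arrows :=
        (isSheaf_iff_isSheaf_of_type _ _).1 hP R hR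
      exact ⟨hsh.amalgamate fam hfam, fun V' g W p =>
        (hsh.valid_glue hfam g ⟨W, ⟨p⟩⟩).trans (key _ _)⟩
    choose s hs using hex
    have hsnat : ∀ {V V' : C} (k : V' ⟶ V), FlatRel25.res P k (s V) = s V' := by
      intro V V' k
      obtain ⟨S, hS, h⟩ := exists_over (J := J) K f.fn V'
      refine eq_of_locally P hS fun V'' g hg => ?_
      obtain ⟨W, ⟨p⟩⟩ := h g hg
      rw [FlatRel25.res_res, hs V (g ≫ k) W p, hs V' g W p]
    refine ⟨⟨fun V => s V.unop, fun k => hsnat k.unop⟩, Subtype.ext (funext fun W => ?_)⟩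
    exact (res_id P _).symm.trans ((hs (f.fn.obj W.unop) (𝟙 _) W.unop (𝟙 _)).trans (res_id P _))

/-- The inverse image of the structure sheaf is the structure sheaf. -/
theorem isIso_pullbackObjUnitToUnit : IsIso (SheafOfModules.pullbackObjUnitToUnit.{u} f.sharpR) := by
  rw [isIso_iff_coyoneda_map_bijective]
  intro M
  rw [← ((SheafOfModules.pullbackPushforwardAdjunction.{u} f.sharpR).homEquiv _ _).bijective.of_comp_iff',
    ← (SheafOfModules.unitHomEquiv _).bijective.of_comp_iff']
  convert! (bijective_pushforwardSections f M).comp (SheafOfModules.unitHomEquiv _).bijective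
  ext k : 1
  dsimp
  rw [SheafOfModules.pushforwardSections_unitHomEquiv, EmbeddingLike.apply_eq_iff_eq,
    Adjunction.homEquiv_naturality_right,
    SheafOfModules.pullbackPushforwardAdjunction_homEquiv_pullbackObjUnitToUnit]

/-- The inverse image of the structure sheaf, as an isomorphism. -/
noncomputable def pullUnitIso : f.pull.obj (ModSite.unit O_D) ≅ ModSite.unit O_C :=
  @asIso _ _ _ _ _ (isIso_pullbackObjUnitToUnit f)

end GrothLib.PullLoc25
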