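import Groth.Agent.Lib.PullLoc25.Tensor
import Groth.Agent.Lib.PullLoc25.Unit
import Groth.Agent.Lib.ModInv25.Basic
import Groth.Agent.Lib.ModFlat.TensorSymm

/-!
# Inverse image, internal hom and invertible modules
-/

set_option autoImplicit false
universe u

open CategoryTheory CategoryTheory.Limits Opposite MonoidalCategory GrothLib.SheafCoh GrothLib.ModFlat

namespace GrothLib.PullLoc25

variable {C D : Type u} [SmallCategory C] [SmallCategory D] {J : GrothendieckTopology C}
  {K : GrothendieckTopology D} {O_C : Sheaf J CommRingCat.{u}} {O_D : Sheaf K CommRingCat.{u}}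
  (f : ModSite.RMor O_C O_D)

/-- The comparison, natural in the first variable. -/
noncomputable def tensorPullNatIso (N : ModSite.Mod O_D) :
    (ModSite.tensorBi O_D).flip.obj N ⋙ f.pull ≅ f.pull ⋙ (ModSite.tensorBi O_C).flip.obj (f.pull.obj N) :=
  NatIso.ofComponents (fun M => pullTensorIso f M N) fun {M M'} α => by
    change f.pull.map (((ModSite.tensorBi O_D).map α).app N) ≫ phi f M' N =
      phi f M N ≫ ((ModSite.tensorBi O_C).map (f.pull.map α)).app (f.pull.obj N)
    rw [tMap_left, tMap_left]
    exact (phi_natural f α (𝟙 N)).trans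
      (congrArg (fun k => phi f M N ≫ tMap (f.pull.map α) k) (f.pull.map_id N))

/-- Internal hom into a direct image. -/
noncomputable def pushHomIso (N : ModSite.Mod O_D) [ModSite.HasSheafHom (f.pull.obj N)] [ModSite.HasSheafHom N] :
    ModSite.sheafHom (f.pull.obj N) ⋙ f.push ≅ f.push ⋙ ModSite.sheafHom N :=
  ((f.adj.comp (ModSite.sheafHomAdj (f.pull.obj N))).ofNatIsoLeft (tensorPullNatIso f N).symm).rightAdjointUniq
    ((ModSite.sheafHomAdj N).comp f.adj)

/-- The inverse image of an invertible module is invertible. -/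
theorem isEquivalence_tensor_pull (L : ModSite.Mod O_D) (hL : ((ModSite.tensorBi O_D).obj L).IsEquivalence) :
    ((ModSite.tensorBi O_C).obj (f.pull.obj L)).IsEquivalence := by
  have := hasSheafHom O_D L
  have := ModInv25.isIso_counit L hL
  let D' := (ModSite.sheafHom L).obj (ModSite.unit O_D)
  let e : ((ModSite.tensorBi O_D).obj D').obj L ≅ ModSite.unit O_D :=
    (asIso (ModSite.sheafHomAdj L).counit).app (ModSite.unit O_D)
  let a : ((ModSite.tensorBi O_C).obj (f.pull.obj D')).obj (f.pull.obj L) ≅ ModSite.unit O_C :=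
    (pullTensorIso f D' L).symm ≪≫ f.pull.mapIso e ≪≫ pullUnitIso f
  let b : ((ModSite.tensorBi O_C).obj (f.pull.obj L)).obj (f.pull.obj D') ≅ ModSite.unit O_C :=
    ((tensorSymm O_C).app (f.pull.obj L)).app (f.pull.obj D') ≪≫ a
  exact (CategoryTheory.Equivalence.mk _ ((ModSite.tensorBi O_C).obj (f.pull.obj D'))
    ((ModInv25.tensorTensorIso _ _).symm ≪≫ (ModSite.tensorBi O_C).mapIso a ≪≫ ModInv25.tensorUnitIso O_C).symm
    ((ModInv25.tensorTensorIso _ _).symm ≪≫ (ModSite.tensorBi O_C).mapIso b ≪≫
      ModInv25.tensorUnitIso O_C)).isEquivalence_functor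

end GrothLib.PullLoc25
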